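import Mathlib.RingTheory.AdicCompletion.Functoriality
import Mathlib.RingTheory.AdicCompletion.Noetherian
import Mathlib.RingTheory.Finiteness.Basic
import Mathlib.RingTheory.Filtration

/-!
Basic facts on adically precomplete / complete modules: quotients and finite modules.
-/

namespace Groth.Agent.Adic

open Submodule

universe u v w

variable {A : Type u} [CommRing A] (I : Ideal A)
variable {M : Type v} [AddCommGroup M] [Module A M] {N : Type w} [AddCommGroup N] [Module A N]

theorem exists_preimage_mem_smul (f : M →ₗ[A] N) (hf : Function.Surjective f) (J : Ideal A) (y : N)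
    (hy : y ∈ J • (⊤ : Submodule A N)) : ∃ x ∈ J • (⊤ : Submodule A M), f x = y := by
  rw [← LinearMap.range_eq_top.2 hf, LinearMap.range_eq_map, ← Submodule.map_smul''] at hy
  exact hy

theorem isPrecomplete_of_surjective (f : M →ₗ[A] N) (hf : Function.Surjective f)
    [IsPrecomplete I M] : IsPrecomplete I N := by
  refine ⟨fun y hy => ?_⟩
  have hd : ∀ n, ∃ d ∈ I ^ n • (⊤ : Submodule A M), f d = y (n + 1) - y n := fun n =>
    exists_preimage_mem_smul f hf _ _ (by
      simpa [SModEq.sub_mem] using (SModEq.symm (hy (Nat.le_succ n))))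
  choose d hdmem hd using hd
  obtain ⟨x₀, hx₀⟩ := hf (y 0)
  let x : ℕ → M := fun n => x₀ + ∑ i ∈ Finset.range n, d i
  have hfx : ∀ n, f (x n) = y n := by
    intro n; induction n with
    | zero => simp [x, hx₀]
    | succ n ih =>
      have : x (n + 1) = x n + d n := by simp [x, Finset.sum_range_succ, add_assoc]
      rw [this, map_add, ih, hd]; abel
  obtain ⟨L, hL⟩ := IsPrecomplete.prec ‹IsPrecomplete I M› (f := x) (by
    intro m n hmn
    rw [SModEq.sub_mem]
    have : x m - x n = -∑ i ∈ Finset.Ico m n, d i := by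
      simp [x, Finset.sum_Ico_eq_sub _ hmn]
    rw [this]
    exact neg_mem (sum_mem fun i hi =>
      pow_smul_top_le I M (Finset.mem_Ico.1 hi).1 (hdmem i)))
  refine ⟨f L, fun n => ?_⟩
  rw [← hfx n]
  exact (SModEq.map (hL n) f).mono (by rw [map_smul'']; exact smul_mono_right _ le_top)

theorem mem_smul_pi {ι : Type*} [Finite ι] (J : Ideal A) (x : ι → M)
    (h : ∀ i, x i ∈ J • (⊤ : Submodule A M)) : x ∈ J • (⊤ : Submodule A (ι → M)) := by
  classical
  cases nonempty_fintype ι
  rw [← Finset.univ_sum_single x]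
  refine sum_mem fun i _ => ?_
  have : (LinearMap.single A (fun _ => M) i) (x i) ∈
      (J • (⊤ : Submodule A M)).map (LinearMap.single A (fun _ => M) i) := mem_map_of_mem (h i)
  rw [map_smul''] at this
  exact SetLike.le_def.1 (smul_mono_right _ le_top) this

theorem apply_mem_smul {ι : Type*} (J : Ideal A) {x : ι → M}
    (h : x ∈ J • (⊤ : Submodule A (ι → M))) (i : ι) : x i ∈ J • (⊤ : Submodule A M) := by
  have : (LinearMap.proj i : (ι → M) →ₗ[A] M) x ∈
      (J • (⊤ : Submodule A (ι → M))).map (LinearMap.proj i) := mem_map_of_mem h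
  rw [map_smul''] at this
  exact SetLike.le_def.1 (smul_mono_right _ le_top) this

instance isPrecomplete_pi {ι : Type*} [Finite ι] [IsPrecomplete I M] :
    IsPrecomplete I (ι → M) := by
  refine ⟨fun f hf => ?_⟩
  have h : ∀ i, ∃ L : M, ∀ n, f n i ≡ L [SMOD (I ^ n • ⊤ : Submodule A M)] := fun i =>
    IsPrecomplete.prec ‹IsPrecomplete I M› fun {m n} hmn => by
      rw [SModEq.sub_mem]; exact apply_mem_smul _ (SModEq.sub_mem.1 (hf hmn)) i
  choose L hL using h
  exact ⟨L, fun n => SModEq.sub_mem.2 (mem_smul_pi _ _ fun i => SModEq.sub_mem.1 (hL i n))⟩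

instance isHausdorff_pi {ι : Type*} [IsHausdorff I M] : IsHausdorff I (ι → M) := by
  refine ⟨fun x hx => funext fun i => IsHausdorff.haus ‹IsHausdorff I M› _ fun n => ?_⟩
  rw [SModEq.zero]; exact apply_mem_smul _ (SModEq.zero.1 (hx n)) i

instance isAdicComplete_pi {ι : Type*} [Finite ι] [IsAdicComplete I M] :
    IsAdicComplete I (ι → M) := ⟨⟩

theorem isPrecomplete_of_finite [IsPrecomplete I A] [Module.Finite A M] : IsPrecomplete I M := by
  obtain ⟨n, f, hf⟩ := Module.Finite.exists_fin' A M
  exact isPrecomplete_of_surjective I f hf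

theorem isAdicComplete_of_finite [IsNoetherianRing A] [IsAdicComplete I A] [Module.Finite A M] :
    IsAdicComplete I M :=
  { toIsHausdorff := IsHausdorff.of_le_jacobson I M (IsAdicComplete.le_jacobson_bot I)
    toIsPrecomplete := isPrecomplete_of_finite I }

/-- A Hausdorff module over a precomplete ring is finite as soon as `M / I M` is. -/
theorem finite_of_finite_quot [IsPrecomplete I A] [IsHausdorff I M]
    (h : Module.Finite A (M ⧸ (I • ⊤ : Submodule A M))) : Module.Finite A M := by
  obtain ⟨n, g, hg⟩ := Module.Finite.exists_fin' A (M ⧸ (I • ⊤ : Submodule A M))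
  obtain ⟨f, hf⟩ := Module.projective_lifting_property (mkQ (I • ⊤ : Submodule A M)) g
    (mkQ_surjective _)
  exact Module.Finite.of_surjective f (surjective_of_mkQ_comp_surjective (I := I) (f := f)
    (by rw [hf]; exact hg))

end Groth.Agent.Adic
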