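import Groth.Prelude.Def_FSch2
import Groth.Agent.IdealSh.Comap
import Mathlib.AlgebraicGeometry.Noetherian
import Mathlib.AlgebraicGeometry.Morphisms.Finite
import Mathlib.AlgebraicGeometry.Morphisms.Proper

/-!
The system `FSch.completionAlong X 𝓘`.
-/

universe u

open CategoryTheory Limits AlgebraicGeometry

namespace Groth.Agent.Adic.ComplAlong

variable {X : Scheme.{u}}

/-- The kernel of the inclusion of closed subschemes is the pulled back ideal sheaf. -/
theorem ker_inclusion {I J : X.IdealSheafData} (h : I ≤ J) :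
    (Scheme.IdealSheafData.inclusion h).ker = J.comap I.subschemeι := by
  let e : J.subscheme ⟶ pullback I.subschemeι J.subschemeι :=
    pullback.lift (Scheme.IdealSheafData.inclusion h) (𝟙 _)
      (by rw [Scheme.IdealSheafData.inclusion_subschemeι, Category.id_comp])
  have : IsIso e := ⟨pullback.snd _ _, pullback.lift_snd _ _ _, by
    apply pullback.hom_ext
    · rw [Category.assoc, pullback.lift_fst, ← cancel_mono I.subschemeι, Category.assoc,
        Scheme.IdealSheafData.inclusion_subschemeι, Category.id_comp, pullback.condition]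
    · rw [Category.assoc, pullback.lift_snd, Category.comp_id, Category.id_comp]⟩
  refine (congrArg Scheme.Hom.ker (pullback.lift_fst (Scheme.IdealSheafData.inclusion h) (𝟙 _)
    (by rw [Scheme.IdealSheafData.inclusion_subschemeι, Category.id_comp])).symm).trans ?_
  exact Scheme.Hom.ker_comp_of_isIso e _

theorem toX_comp_subschemeι (𝓘 : X.IdealSheafData) (n : ℕ) :
    (FSch.completionAlong X 𝓘).toX n ≫ (𝓘 ^ (n + 1)).subschemeι = (𝓘 ^ (0 + 1)).subschemeι := by
  induction n with
  | zero => exact Category.id_comp _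
  | succ n ih =>
    show ((FSch.completionAlong X 𝓘).toX n ≫ (FSch.completionAlong X 𝓘).ι n) ≫ _ = _
    refine (Category.assoc _ _ _).trans ?_
    refine Eq.trans ?_ ih
    exact congrArg ((FSch.completionAlong X 𝓘).toX n ≫ ·)
      (Scheme.IdealSheafData.inclusion_subschemeι (FSch.pow_succ_le X 𝓘 n))

theorem toX_eq (𝓘 : X.IdealSheafData) (n : ℕ)
    (h : 𝓘 ^ (n + 1) ≤ 𝓘 ^ (0 + 1)) :
    (FSch.completionAlong X 𝓘).toX n = Scheme.IdealSheafData.inclusion h := by
  refine (cancel_mono (𝓘 ^ (n + 1)).subschemeι).1 ?_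
  refine (toX_comp_subschemeι 𝓘 n).trans ?_
  exact (Scheme.IdealSheafData.inclusion_subschemeι h).symm

theorem isFormal (𝓘 : X.IdealSheafData) : (FSch.completionAlong X 𝓘).IsFormal := by
  intro n
  have hle := FSch.pow_succ_le X 𝓘 n
  refine ⟨?_, ?_⟩
  · show IsClosedImmersion (Scheme.IdealSheafData.inclusion hle)
    have : IsClosedImmersion (Scheme.IdealSheafData.inclusion hle ≫ (𝓘 ^ (n + 1 + 1)).subschemeι) := by
      rw [Scheme.IdealSheafData.inclusion_subschemeι]
      infer_instance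
    exact IsClosedImmersion.of_comp _ (𝓘 ^ (n + 1 + 1)).subschemeι
  · intro y
    have hy : (𝓘 ^ (n + 1 + 1)).subschemeι y ∈ Set.range (𝓘 ^ (n + 1)).subschemeι := by
      have := Set.mem_range_self (f := (𝓘 ^ (n + 1 + 1)).subschemeι) y
      rwa [Scheme.IdealSheafData.range_subschemeι, Scheme.IdealSheafData.support_pow_succ] at this ⊢
    obtain ⟨x, hx⟩ := hy
    refine ⟨x, (𝓘 ^ (n + 1 + 1)).subschemeι.isEmbedding.injective ?_⟩
    rw [← hx, ← Scheme.IdealSheafData.inclusion_subschemeι hle]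
    rfl

theorem isAdic (𝓘 : X.IdealSheafData) : (FSch.completionAlong X 𝓘).IsAdic := by
  intro n
  have h0 : 𝓘 ^ (n + 1 + 1) ≤ 𝓘 ^ (0 + 1) := fun U => by
    simp only [Scheme.IdealSheafData.ideal_pow, Pi.pow_apply]
    exact Ideal.pow_le_pow_right (by omega)
  refine (ker_inclusion (FSch.pow_succ_le X 𝓘 n)).trans ?_
  refine Eq.trans ?_ (congrArg (· ^ (n + 1))
    ((congrArg Scheme.Hom.ker (toX_eq 𝓘 (n + 1) h0)).trans (ker_inclusion h0)).symm)
  refine (IdealSh.Comap.comap_pow 𝓘 (𝓘 ^ (n + 1 + 1)).subschemeι (n + 1)).trans ?_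
  exact congrArg (fun J => J.comap (𝓘 ^ (n + 1 + 1)).subschemeι ^ (n + 1))
    (show 𝓘 = 𝓘 ^ (0 + 1) by rw [zero_add, pow_one])

theorem isLocNoethFormal [IsLocallyNoetherian X] (𝓘 : X.IdealSheafData) :
    (FSch.completionAlong X 𝓘).IsLocNoethFormal :=
  ⟨isFormal 𝓘, isAdic 𝓘, fun n => by
    have hc : IsClosedImmersion (𝓘 ^ (n + 1)).subschemeι := inferInstance
    have hf : IsFinite (𝓘 ^ (n + 1)).subschemeι :=
      ((IsClosedImmersion.iff_isFinite_and_mono _).1 hc).1
    have hn : IsLocallyNoetherian (𝓘 ^ (n + 1)).subscheme :=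
      LocallyOfFiniteType.isLocallyNoetherian (𝓘 ^ (n + 1)).subschemeι
    exact hn⟩

end Groth.Agent.Adic.ComplAlong
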