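import Groth.Agent.Adic.SysNoeth
import Groth.Agent.Adic.ComplAlong
import Groth.Prelude.Def_FSch3

/-!
Adic morphisms of systems: total spaces, closed subsystems, completions.
-/

universe u

open CategoryTheory Limits AlgebraicGeometry

namespace Groth.Agent.Adic.AdicHom

theorem isPullback_subschemeMap {X Y : Scheme.{u}} (f : X ⟶ Y) (I : Y.IdealSheafData)
    (J : X.IdealSheafData) (hJ : I.comap f = J) (H : I ≤ J.map f) :
    IsPullback J.subschemeι (Scheme.IdealSheafData.subschemeMap J I f H) f I.subschemeι := by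
  subst hJ
  refine IsPullback.of_iso_pullback ⟨(Scheme.IdealSheafData.subschemeMap_subschemeι _ _ _ _).symm⟩
    (I.comapIso f) ?_ ?_
  · exact Scheme.IdealSheafData.comapIso_hom_fst I f
  · exact Scheme.IdealSheafData.comapIso_hom_snd I f

section Total

variable {𝔛 𝔖 : FSch.Sys.{u}} (f : 𝔛 ⟶ 𝔖) (hS : 𝔖.IsFormal) (hf : FSch.IsAdicHom f)

include hS hf in
theorem isFormal : 𝔛.IsFormal := fun n => by
  have h1 : IsClosedImmersion (𝔛.ι n) := MorphismProperty.of_isPullback (hf n).flip (hS n).1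
  have h2 : Surjective (𝔛.ι n) := MorphismProperty.of_isPullback (hf n).flip ⟨(hS n).2⟩
  exact ⟨h1, h2.1⟩

include hf in
theorem isPullback_toX (n : ℕ) :
    IsPullback (𝔛.toX n) ((f : FSch.Hom 𝔛 𝔖).app 0) ((f : FSch.Hom 𝔛 𝔖).app n) (𝔖.toX n) := by
  induction n with
  | zero =>
    have : IsIso (𝔛.toX 0) := IsIso.id _
    have : IsIso (𝔖.toX 0) := IsIso.id _
    exact IsPullback.of_horiz_isIso ⟨(Category.id_comp _).trans (Category.comp_id _).symm⟩
  | succ n ih => exact ih.paste_horiz (hf n)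

include hS hf in
theorem ker_toX_eq (n : ℕ) :
    (𝔛.toX n).ker = (𝔖.toX n).ker.comap ((f : FSch.Hom 𝔛 𝔖).app n) := by
  have := FSch.Sys.toX_isClosedImmersion 𝔖 hS n
  exact RestrictOpen.ker_eq_comap (isPullback_toX f hf n)

include hS hf in
theorem isAdic (hA : 𝔖.IsAdic) : 𝔛.IsAdic := fun n => by
  have := (hS n).1
  rw [RestrictOpen.ker_eq_comap (hf n), hA n, IdealSh.Comap.comap_pow, ker_toX_eq f hS hf]

include hS hf in
theorem isLocallyNoetherian (hA : 𝔖.IsAdic) (hSn : ∀ n, IsLocallyNoetherian (𝔖.X n))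
    [IsLocallyNoetherian (𝔛.X 0)] (n : ℕ) : IsLocallyNoetherian (𝔛.X n) := by
  cases n with
  | zero => infer_instance
  | succ n =>
    choose V U hxU e using fun x : (𝔛.X (n + 1)) =>
      IdealSh.Comap.exists_affine_pair ((f : FSch.Hom 𝔛 𝔖).app (n + 1)) x
    refine isLocallyNoetherian_of_affine_cover (S := U) ?_ fun x => ?_
    · exact top_le_iff.1 fun x _ => TopologicalSpace.Opens.mem_iSup.2 ⟨x, hxU x⟩
    have hX := isFormal f hS hf
    have := FSch.Sys.toX_isClosedImmersion 𝔛 hX (n + 1)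
    have := hSn (n + 1)
    let U' := U x
    set K : Ideal Γ(𝔛.X (n + 1), (U x).1) := (𝔛.toX (n + 1)).ker.ideal (U x) with hKdef
    have hKfg : K.FG := by
      rw [hKdef, ker_toX_eq f hS hf, IdealSh.Comap.ideal_comap _ _ (V x) (U x) (e x)]
      have : IsNoetherianRing Γ(𝔖.X (n + 1), (V x).1) :=
        IsLocallyNoetherian.component_noetherian (V x)
      exact Ideal.FG.map (IsNoetherian.noetherian _) _
    have hKpow : K ^ (n + 1 + 1) = ⊥ := by
      have h2 := congrArg (fun J => Scheme.IdealSheafData.ideal J (U x))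
        (SysNoeth.ker_toX_pow 𝔛 hX (isAdic f hS hf hA) n)
      simp only [Scheme.IdealSheafData.ideal_pow, Pi.pow_apply] at h2
      exact h2.trans (by simp)
    have hsurj0 : Function.Surjective ((𝔛.toX (n + 1)).app (U x).1).hom :=
      (𝔛.toX (n + 1)).app_surjective (U x).1 (U x).2
    have : IsNoetherianRing Γ(𝔛.X 0, 𝔛.toX (n + 1) ⁻¹ᵁ (U x).1) :=
      IsLocallyNoetherian.component_noetherian ⟨_, (U x).2.preimage (𝔛.toX (n + 1))⟩
    have hK0 : RingHom.ker ((𝔛.toX (n + 1)).app (U x).1).hom = K :=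
      ((𝔛.toX (n + 1)).ker_apply (U x)).symm
    have : IsNoetherianRing (Γ(𝔛.X (n + 1), (U x).1) ⧸ K) :=
      hK0 ▸ isNoetherianRing_of_ringEquiv _
        (RingHom.quotientKerEquivOfSurjective hsurj0).symm
    have := SysNoeth.isAdicComplete_of_pow_eq_bot K _ hKpow
    exact RegLoc.AdicNoeth.isNoetherianRing_of_isAdicComplete K hKfg

theorem isLocNoethFormal (f : 𝔛 ⟶ 𝔖) (h : 𝔖.IsLocNoethFormal) (hf : FSch.IsAdicHom f)
    [IsLocallyNoetherian (𝔛.X 0)] : 𝔛.IsLocNoethFormal :=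
  ⟨isFormal f h.1 hf, isAdic f h.1 hf h.2.1, isLocallyNoetherian f h.1 hf h.2.1 h.2.2⟩

end Total

theorem isAdicHom_subSysι (𝔛 : FSch.Sys.{u}) (𝒜 : ∀ n, (𝔛.X n).IdealSheafData)
    (h : ∀ n, (𝒜 (n + 1)).comap (𝔛.ι n) = 𝒜 n) :
    FSch.IsAdicHom (FSch.subSysι 𝔛 𝒜 fun n => (h n).le) := fun n =>
  (isPullback_subschemeMap (𝔛.ι n) (𝒜 (n + 1)) (𝒜 n) (h n)
    (Scheme.IdealSheafData.le_map_iff_comap_le.mpr (h n).le)).flip

section Completion

variable {X Y : Scheme.{u}} (f : X ⟶ Y) (𝓚 : Y.IdealSheafData)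
  (h : FSch.PowCompat f (𝓚.comap f) 𝓚)

theorem isPullback_completionToX (n : ℕ) :
    IsPullback (FSch.completionToX X (𝓚.comap f) n)
      ((FSch.completionMap f (𝓚.comap f) 𝓚 h : FSch.Hom _ _).app n) f
      (FSch.completionToX Y 𝓚 n) :=
  isPullback_subschemeMap f (𝓚 ^ (n + 1)) _ (IdealSh.Comap.comap_pow 𝓚 f (n + 1))
    (Scheme.IdealSheafData.le_map_iff_comap_le.mpr (h n))

theorem isAdicHom_completionMap :
    FSch.IsAdicHom (FSch.completionMap f (𝓚.comap f) 𝓚 h) := fun n => by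
  refine IsPullback.of_right ?_ ((FSch.completionMap f (𝓚.comap f) 𝓚 h : FSch.Hom _ _).comm n).symm
    (isPullback_completionToX f 𝓚 h (n + 1))
  have h1 := isPullback_completionToX f 𝓚 h n
  have e1 : (FSch.completionAlong X (𝓚.comap f)).ι n ≫ FSch.completionToX X (𝓚.comap f) (n + 1) =
      FSch.completionToX X (𝓚.comap f) n :=
    Scheme.IdealSheafData.inclusion_subschemeι (FSch.pow_succ_le X _ n)
  have e2 : (FSch.completionAlong Y 𝓚).ι n ≫ FSch.completionToX Y 𝓚 (n + 1) =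
      FSch.completionToX Y 𝓚 n :=
    Scheme.IdealSheafData.inclusion_subschemeι (FSch.pow_succ_le Y _ n)
  exact e1.symm ▸ e2.symm ▸ h1

end Completion

/-- A levelwise cartesian square of systems is cartesian. -/
theorem isPullback_of_app {P A B S : FSch.Sys.{u}} {p : P ⟶ A} {q : P ⟶ B} {a : A ⟶ S}
    {b : B ⟶ S}
    (h : ∀ n, IsPullback ((p : FSch.Hom P A).app n) ((q : FSch.Hom P B).app n)
      ((a : FSch.Hom A S).app n) ((b : FSch.Hom B S).app n)) :
    IsPullback p q a b := by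
  refine IsPullback.of_isLimit' ⟨FSch.Hom.ext (funext fun n => (h n).w)⟩
    (PullbackCone.IsLimit.mk _ (fun s => ⟨fun n => (h n).lift ((s.fst : FSch.Hom _ A).app n)
      ((s.snd : FSch.Hom _ B).app n)
      (congrFun (congrArg FSch.Hom.app s.condition) n), fun n => ?_⟩) ?_ ?_ ?_)
  · refine (h (n + 1)).hom_ext ?_ ?_
    · rw [Category.assoc, Category.assoc, IsPullback.lift_fst,
        ← (s.fst : FSch.Hom _ A).comm n]
      erw [(p : FSch.Hom P A).comm n |>.symm, IsPullback.lift_fst_assoc]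
    · rw [Category.assoc, Category.assoc, IsPullback.lift_snd,
        ← (s.snd : FSch.Hom _ B).comm n]
      erw [(q : FSch.Hom P B).comm n |>.symm, IsPullback.lift_snd_assoc]
  · exact fun s => FSch.Hom.ext (funext fun n => (h n).lift_fst _ _ _)
  · exact fun s => FSch.Hom.ext (funext fun n => (h n).lift_snd _ _ _)
  · exact fun s m hm₁ hm₂ => FSch.Hom.ext (funext fun n => (h n).hom_ext
      ((congrFun (congrArg FSch.Hom.app hm₁) n).trans ((h n).lift_fst _ _ _).symm)
      ((congrFun (congrArg FSch.Hom.app hm₂) n).trans ((h n).lift_snd _ _ _).symm))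

theorem isPullback_completion {X Y S : Scheme.{u}} (g : X ⟶ S) (h : Y ⟶ S)
    (𝓡 : X.IdealSheafData) (𝓙 : S.IdealSheafData)
    (hg : FSch.PowCompat g 𝓡 𝓙) (hh : FSch.PowCompat h (𝓙.comap h) 𝓙)
    (hp : FSch.PowCompat (pullback.fst g h) (𝓡.comap (pullback.fst g h)) 𝓡)
    (hq : FSch.PowCompat (pullback.snd g h) (𝓡.comap (pullback.fst g h)) (𝓙.comap h)) :
    IsPullback (FSch.completionMap (pullback.fst g h) (𝓡.comap (pullback.fst g h)) 𝓡 hp)
      (FSch.completionMap (pullback.snd g h) (𝓡.comap (pullback.fst g h)) (𝓙.comap h) hq)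
      (FSch.completionMap g 𝓡 𝓙 hg) (FSch.completionMap h (𝓙.comap h) 𝓙 hh) := by
  refine isPullback_of_app fun n => ?_
  set pn := (FSch.completionMap (pullback.fst g h) (𝓡.comap (pullback.fst g h)) 𝓡 hp :
    FSch.Hom _ _).app n with hpn
  set qn := (FSch.completionMap (pullback.snd g h) (𝓡.comap (pullback.fst g h)) (𝓙.comap h) hq :
    FSch.Hom _ _).app n with hqn
  set gn := (FSch.completionMap g 𝓡 𝓙 hg : FSch.Hom _ _).app n with hgn
  set hn := (FSch.completionMap h (𝓙.comap h) 𝓙 hh : FSch.Hom _ _).app n with hhn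
  have h1 : IsPullback pn (FSch.completionToX _ (𝓡.comap (pullback.fst g h)) n)
      (FSch.completionToX X 𝓡 n) (pullback.fst g h) :=
    (isPullback_completionToX (pullback.fst g h) 𝓡 hp n).flip
  have h3 : IsPullback hn (FSch.completionToX Y (𝓙.comap h) n) (FSch.completionToX S 𝓙 n) h :=
    (isPullback_completionToX h 𝓙 hh n).flip
  have w1 : gn ≫ FSch.completionToX S 𝓙 n = FSch.completionToX X 𝓡 n ≫ g :=
    Scheme.IdealSheafData.subschemeMap_subschemeι _ _ _
      (Scheme.IdealSheafData.le_map_iff_comap_le.mpr (hg n))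
  have w2 : qn ≫ FSch.completionToX Y (𝓙.comap h) n =
      FSch.completionToX _ (𝓡.comap (pullback.fst g h)) n ≫ pullback.snd g h :=
    Scheme.IdealSheafData.subschemeMap_subschemeι _ _ _
      (Scheme.IdealSheafData.le_map_iff_comap_le.mpr (hq n))
  refine IsPullback.of_bot ?_ ?_ h3
  · rw [w2, w1]
    exact h1.paste_vert (IsPullback.of_hasPullback g h)
  · have : Mono (FSch.completionToX S 𝓙 n) :=
      (inferInstance : Mono (𝓙 ^ (n + 1)).subschemeι)
    refine (cancel_mono (FSch.completionToX S 𝓙 n)).1 ?_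
    rw [Category.assoc, Category.assoc, w1, h3.w, ← Category.assoc, h1.w, ← Category.assoc qn, w2,
      Category.assoc, Category.assoc, pullback.condition]

end Groth.Agent.Adic.AdicHom
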