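import Mathlib.RingTheory.AdicCompletion.Algebra
import Mathlib.RingTheory.AdicCompletion.RingHom
import Mathlib.RingTheory.AdicCompletion.Completeness

/-!
The universal property of the `I`-adic completion of an `R`-algebra among complete `R`-algebras.
-/

namespace Groth.Agent.Adic

variable {R C B : Type*} [CommRing R] [CommRing C] [Algebra R C] [CommRing B] [Algebra R B]
  (I : Ideal R)

theorem map_pow_map_le (h : C →ₐ[R] B) (n : ℕ) :
    (I.map (algebraMap R C)) ^ n ≤ ((I.map (algebraMap R B)) ^ n).comap h := by
  rw [← Ideal.map_le_iff_le_comap, ← Ideal.map_pow, ← Ideal.map_pow]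
  refine le_of_eq ?_
  show Ideal.map h.toRingHom (Ideal.map (algebraMap R C) (I ^ n)) = _
  rw [Ideal.map_map]
  exact congrArg (fun φ => Ideal.map φ (I ^ n)) h.comp_algebraMap

theorem quotientMapₐ_evalₐ_compat (h : C →ₐ[R] B) {m n : ℕ} (hle : m ≤ n) :
    (Ideal.Quotient.factorₐ R (Ideal.pow_le_pow_right hle)).comp
        ((Ideal.quotientMapₐ _ h (map_pow_map_le I h n)).comp
          ((AdicCompletion.evalₐ (I.map (algebraMap R C)) n).restrictScalars R)) =
      (Ideal.quotientMapₐ _ h (map_pow_map_le I h m)).comp
          ((AdicCompletion.evalₐ (I.map (algebraMap R C)) m).restrictScalars R) := by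
  ext x
  obtain ⟨a, rfl⟩ := AdicCompletion.mk_surjective (I.map (algebraMap R C)) C x
  simp only [AlgHom.comp_apply, AlgHom.restrictScalars_apply, AdicCompletion.evalₐ_mk]
  rw [AdicCompletion.Ideal.mk_eq_mk (I.map (algebraMap R C)) hle a |>.symm]
  rfl

/-- The extension of an `R`-algebra map `C → B` to the completion, `B` being complete. -/
noncomputable def complLift [IsAdicComplete (I.map (algebraMap R B)) B] (h : C →ₐ[R] B) :
    AdicCompletion (I.map (algebraMap R C)) C →ₐ[R] B :=
  IsAdicComplete.liftAlgHom (I.map (algebraMap R B))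
    (fun n => (Ideal.quotientMapₐ _ h (map_pow_map_le I h n)).comp
      ((AdicCompletion.evalₐ (I.map (algebraMap R C)) n).restrictScalars R))
    (quotientMapₐ_evalₐ_compat I h)

theorem complLift_of [IsAdicComplete (I.map (algebraMap R B)) B] (h : C →ₐ[R] B) (x : C) :
    complLift I h (AdicCompletion.of (I.map (algebraMap R C)) C x) = h x := by
  refine (IsHausdorff.eq_iff_smodEq (I := I.map (algebraMap R B))).2 fun n => ?_
  rw [SModEq.sub_mem, smul_eq_mul, Ideal.mul_top, ← Ideal.Quotient.eq]
  refine (IsAdicComplete.mk_liftAlgHom (I.map (algebraMap R B)) _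
    (quotientMapₐ_evalₐ_compat I h) n _).trans ?_
  simp [Ideal.quotientMapₐ, AdicCompletion.evalₐ_of]

theorem complLift_algebraMap [IsAdicComplete (I.map (algebraMap R B)) B] {A : Type*} [CommRing A] [Algebra A C] (h : C →ₐ[R] B) (a : A) :
    complLift I h (algebraMap A (AdicCompletion (I.map (algebraMap R C)) C) a) =
      h (algebraMap A C a) :=
  complLift_of I h _

theorem complExt [IsHausdorff (I.map (algebraMap R B)) B] (hI : I.FG)
    (f g : AdicCompletion (I.map (algebraMap R C)) C →ₐ[R] B)
    (h : ∀ x, f (AdicCompletion.of (I.map (algebraMap R C)) C x) =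
      g (AdicCompletion.of (I.map (algebraMap R C)) C x)) : f = g := by
  ext z
  refine (IsHausdorff.eq_iff_smodEq (I := I.map (algebraMap R B))).2 fun n => ?_
  rw [SModEq.sub_mem, smul_eq_mul, Ideal.mul_top, ← Ideal.map_pow]
  obtain ⟨y₀, hy₀⟩ := Submodule.Quotient.mk_surjective _
    (AdicCompletion.eval (I.map (algebraMap R C)) C n z)
  have hw : z - AdicCompletion.of (I.map (algebraMap R C)) C y₀ ∈
      (I ^ n).map (algebraMap R (AdicCompletion (I.map (algebraMap R C)) C)) := by
    have : z - AdicCompletion.of (I.map (algebraMap R C)) C y₀ ∈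
        (AdicCompletion.eval (I.map (algebraMap R C)) C n).ker := by
      rw [LinearMap.mem_ker, map_sub]
      exact sub_eq_zero.2 hy₀.symm
    rw [← AdicCompletion.pow_smul_top_eq_ker_eval (hI.map _), Ideal.smul_top_eq_map,
      Submodule.restrictScalars_mem, ← Ideal.map_pow, Ideal.map_map,
      ← IsScalarTower.algebraMap_eq] at this
    exact this
  have key : ∀ k : AdicCompletion (I.map (algebraMap R C)) C →ₐ[R] B,
      k (z - AdicCompletion.of (I.map (algebraMap R C)) C y₀) ∈ (I ^ n).map (algebraMap R B) := by
    intro k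
    have := Ideal.mem_map_of_mem k.toRingHom hw
    rw [Ideal.map_map] at this
    have e := k.comp_algebraMap
    erw [e] at this
    exact this
  have := Ideal.sub_mem _ (key f) (key g)
  rw [map_sub, map_sub, h] at this
  simpa using this

end Groth.Agent.Adic
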