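import Groth.Prelude.Def_FSch3
import Mathlib.RingTheory.LocalRing.ResidueField.Basic

/-!
The stalk ring `A_{S}` inside `A{S⁻¹}`.
-/

universe u

namespace Groth.Agent.Adic.StalkRing

section Completion

variable {R : Type u} [CommRing R] (I : Ideal R)

/-- An element of a completion which is a unit modulo `I` is a unit. -/
theorem isUnit_of_isUnit_evalₐ (x : AdicCompletion I R)
    (hx : IsUnit (AdicCompletion.evalₐ I 1 x)) : IsUnit x := by
  obtain ⟨a, rfl⟩ := AdicCompletion.mk_surjective I R x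
  have h1 : ∀ n, IsUnit (AdicCompletion.evalₐ I n (AdicCompletion.mk I R a)) := by
    intro n
    rcases Nat.eq_zero_or_pos n with rfl | hn
    · rw [AdicCompletion.evalₐ_mk]
      have : Subsingleton (R ⧸ I ^ 0) :=
        Ideal.Quotient.subsingleton_iff.2 (by simp [Ideal.one_eq_top])
      exact isUnit_of_subsingleton _
    · rw [AdicCompletion.evalₐ_mk] at hx ⊢
      rw [← AdicCompletion.Ideal.mk_eq_mk I hn a] at hx
      obtain ⟨b, hb⟩ := hx.exists_right_inv
      obtain ⟨b, rfl⟩ := Ideal.Quotient.mk_surjective b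
      rw [← map_mul, ← map_one (Ideal.Quotient.mk (I ^ 1)), Ideal.Quotient.eq, pow_one] at hb
      have hnil : IsNilpotent (Ideal.Quotient.mk (I ^ n) (a n * b - 1)) :=
        ⟨n, by rw [← map_pow, Ideal.Quotient.eq_zero_iff_mem]; exact Ideal.pow_mem_pow hb n⟩
      have := hnil.isUnit_one_add
      rw [← map_one (Ideal.Quotient.mk (I ^ n)), ← map_add, add_sub_cancel, map_mul] at this
      exact isUnit_of_mul_isUnit_left this
  have h2 : ∀ n, ∃ b : R, AdicCompletion.evalₐ I n (AdicCompletion.mk I R a) *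
      Ideal.Quotient.mk (I ^ n) b = 1 := fun n => by
    obtain ⟨b, hb⟩ := (h1 n).exists_right_inv
    obtain ⟨b, rfl⟩ := Ideal.Quotient.mk_surjective b
    exact ⟨b, hb⟩
  choose s hs using h2
  simp only [AdicCompletion.evalₐ_mk] at hs
  have hc : AdicCompletion.IsAdicCauchy I R s := by
    intro m n hmn
    rw [SModEq.sub_mem, smul_eq_mul, Ideal.mul_top, ← Ideal.Quotient.eq]
    have e := congrArg (Ideal.Quotient.factor (Ideal.pow_le_pow_right hmn)) (hs n)
    rw [map_mul, map_one, Ideal.Quotient.factor_mk, Ideal.Quotient.factor_mk,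
      AdicCompletion.Ideal.mk_eq_mk I hmn a] at e
    exact left_inv_eq_right_inv ((mul_comm _ _).trans (hs m)) e
  refine isUnit_iff_exists_inv.2 ⟨AdicCompletion.mk I R ⟨s, hc⟩, ?_⟩
  refine AdicCompletion.ext_evalₐ fun n => ?_
  rw [map_mul, AdicCompletion.evalₐ_mk, AdicCompletion.evalₐ_mk, map_one]
  exact hs n

theorem isUnit_iff (x : AdicCompletion I R) :
    IsUnit x ↔ IsUnit (AdicCompletion.evalₐ I 1 x) :=
  ⟨fun h => h.map _, isUnit_of_isUnit_evalₐ I x⟩

variable {T : Type u} [CommRing T] (K : Ideal T) (g : R →+* T) (h : I.map g ≤ K)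

theorem evalₐ_complMap (n : ℕ) (x : AdicCompletion I R) :
    AdicCompletion.evalₐ K n (FSch.complMap I K g h x) =
      Ideal.quotientMap (K ^ n) g (FSch.pow_le_comap_pow_of_map_le I K g h n)
        (AdicCompletion.evalₐ I n x) :=
  AdicCompletion.evalₐ_liftRingHom K
    (fun n => (Ideal.quotientMap (K ^ n) g (FSch.pow_le_comap_pow_of_map_le I K g h n)).comp
      (AdicCompletion.evalₐ I n).toRingHom)
    (fun {m n} hle => by
      apply RingHom.ext
      intro x
      obtain ⟨y, rfl⟩ := AdicCompletion.mk_surjective I R x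
      simp only [RingHom.coe_comp, Function.comp_apply, AlgHom.toRingHom_eq_coe, AlgHom.coe_toRingHom,
        AdicCompletion.evalₐ_mk, Ideal.quotientMap_mk, Ideal.Quotient.factorPow, Ideal.Quotient.factor_mk]
      refine Ideal.Quotient.eq.2 ?_
      have hy := Ideal.Quotient.eq.1 (AdicCompletion.Ideal.mk_eq_mk I hle y).symm
      rw [← map_sub]
      first
        | exact FSch.pow_le_comap_pow_of_map_le I K g h m hy
        | exact FSch.pow_le_comap_pow_of_map_le I K g h m ((Submodule.neg_mem_iff _).1 (by simpa using hy)))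
    n x

theorem complMap_of (x : R) :
    FSch.complMap I K g h (AdicCompletion.of I R x) = AdicCompletion.of K T (g x) := by
  refine AdicCompletion.ext_evalₐ fun n => ?_
  rw [evalₐ_complMap, AdicCompletion.evalₐ_of, AdicCompletion.evalₐ_of, Ideal.quotientMap_mk]

theorem complMap_comp {W : Type u} [CommRing W] (L : Ideal W) (g' : T →+* W) (h' : K.map g' ≤ L)
    (g'' : R →+* W) (h'' : I.map g'' ≤ L) (e : g'.comp g = g'') (x : AdicCompletion I R) :
    FSch.complMap K L g' h' (FSch.complMap I K g h x) = FSch.complMap I L g'' h'' x := by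
  subst e
  refine AdicCompletion.ext_evalₐ fun n => ?_
  rw [evalₐ_complMap, evalₐ_complMap, evalₐ_complMap]
  obtain ⟨y, hy⟩ := Ideal.Quotient.mk_surjective (AdicCompletion.evalₐ I n x)
  rw [← hy]
  rfl

end Completion

variable (A : Type u) [CommRing A] (J : Ideal A) (𝔭 : Ideal A) [h𝔭 : 𝔭.IsPrime]

theorem eval_isUnit_iff (hJ : J ≤ 𝔭) (r : Localization.AtPrime 𝔭) :
    IsUnit (Ideal.Quotient.mk ((J.map (algebraMap A (Localization.AtPrime 𝔭))) ^ 1) r) ↔ IsUnit r := by
  refine ⟨fun h => ?_, fun h => h.map _⟩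
  obtain ⟨b, hb⟩ := h.exists_right_inv
  obtain ⟨b, rfl⟩ := Ideal.Quotient.mk_surjective b
  rw [← map_mul, ← map_one (Ideal.Quotient.mk _), Ideal.Quotient.eq, pow_one] at hb
  have hle : J.map (algebraMap A (Localization.AtPrime 𝔭)) ≤
      IsLocalRing.maximalIdeal (Localization.AtPrime 𝔭) := by
    rw [← Localization.AtPrime.map_eq_maximalIdeal]
    exact Ideal.map_mono hJ
  have h1 : IsUnit (r * b) := IsLocalRing.notMem_maximalIdeal.1 fun hrb => by
    have := Ideal.sub_mem _ hrb (hle hb)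
    rw [sub_sub_cancel] at this
    exact (IsLocalRing.maximalIdeal.isMaximal _).ne_top ((Ideal.eq_top_iff_one _).2 this)
  exact isUnit_of_mul_isUnit_left h1

theorem exists_rep (x : FSch.cAtPrime A J 𝔭) :
    ∃ r : Localization.AtPrime 𝔭, AdicCompletion.evalₐ _ 1 x = Ideal.Quotient.mk _ r :=
  ⟨_, (Ideal.Quotient.mk_surjective (AdicCompletion.evalₐ _ 1 x)).choose_spec.symm⟩

theorem isLocalRing_cAtPrime (hJ : J ≤ 𝔭) : IsLocalRing (FSch.cAtPrime A J 𝔭) := by
  have : Nontrivial (FSch.cAtPrime A J 𝔭) := by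
    by_contra hn
    rw [not_nontrivial_iff_subsingleton] at hn
    have h0 : IsUnit (0 : FSch.cAtPrime A J 𝔭) := isUnit_of_subsingleton _
    have h1 := h0.map (AdicCompletion.evalₐ (J.map (algebraMap A (Localization.AtPrime 𝔭))) 1)
    rw [map_zero, ← map_zero (Ideal.Quotient.mk _), eval_isUnit_iff A J 𝔭 hJ] at h1
    exact not_isUnit_zero h1
  refine IsLocalRing.of_nonunits_add fun x y hx hy hxy => ?_
  obtain ⟨r, hr⟩ := exists_rep A J 𝔭 x
  obtain ⟨s, hs⟩ := exists_rep A J 𝔭 y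
  rw [mem_nonunits_iff, isUnit_iff, hr, eval_isUnit_iff A J 𝔭 hJ] at hx
  rw [mem_nonunits_iff, isUnit_iff, hs, eval_isUnit_iff A J 𝔭 hJ] at hy
  rw [isUnit_iff, map_add, hr, hs, ← map_add, eval_isUnit_iff A J 𝔭 hJ] at hxy
  exact IsLocalRing.nonunits_add hx hy hxy

/-- `A_f → A_{fg}`. -/
noncomputable def awayMap (f g : A) : Localization.Away f →+* Localization.Away (f * g) :=
  IsLocalization.Away.lift f (g := algebraMap A (Localization.Away (f * g))) (by
    have := IsLocalization.Away.algebraMap_isUnit (S := Localization.Away (f * g)) (f * g)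
    rw [map_mul] at this
    exact isUnit_of_mul_isUnit_left this)

theorem map_awayMap_le (f g : A) :
    (J.map (algebraMap A (Localization.Away f))).map (awayMap A f g) ≤
      J.map (algebraMap A (Localization.Away (f * g))) := by
  rw [Ideal.map_map]
  apply le_of_eq
  congr 1
  ext a
  simp [awayMap]

theorem cAway_trans (f g : A) (hf : f ∉ 𝔭) (hfg : f * g ∉ 𝔭) (x : FSch.cAway A J f) :
    FSch.cAwayToAtPrime A J 𝔭 (f * g) hfg
      (FSch.complMap _ _ (awayMap A f g) (map_awayMap_le A J f g) x) =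
      FSch.cAwayToAtPrime A J 𝔭 f hf x := by
  refine complMap_comp _ _ _ _ _ _ _ _ _ ?_ x
  refine IsLocalization.ringHom_ext (Submonoid.powers f) (RingHom.ext fun a => ?_)
  simp [awayMap, FSch.awayToAtPrime]

theorem mem_iff (x : FSch.cAtPrime A J 𝔭) :
    x ∈ FSch.stalkSubring A J 𝔭 ↔
      ∃ (f : A) (hf : f ∉ 𝔭) (y : FSch.cAway A J f), FSch.cAwayToAtPrime A J 𝔭 f hf y = x := by
  have : Nonempty {f : A // f ∉ 𝔭} := ⟨⟨1, fun h => h𝔭.ne_top ((Ideal.eq_top_iff_one _).2 h)⟩⟩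
  rw [FSch.stalkSubring, Subring.mem_iSup_of_directed]
  · exact ⟨fun ⟨⟨f, hf⟩, y, hy⟩ => ⟨f, hf, y, hy⟩, fun ⟨f, hf, y, hy⟩ => ⟨⟨f, hf⟩, y, hy⟩⟩
  · intro f g
    have hfg : f.1 * g.1 ∉ 𝔭 := fun h => (h𝔭.mem_or_mem h).elim f.2 g.2
    have hgf : g.1 * f.1 ∉ 𝔭 := fun h => (h𝔭.mem_or_mem h).elim g.2 f.2
    refine ⟨⟨f.1 * g.1, hfg⟩, ?_, ?_⟩
    · rintro _ ⟨y, rfl⟩
      exact ⟨_, cAway_trans A J 𝔭 f.1 g.1 f.2 hfg y⟩
    · rintro _ ⟨y, rfl⟩
      have key : ∀ (k : A) (hk : k ∉ 𝔭), g.1 * f.1 = k →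
          FSch.cAwayToAtPrime A J 𝔭 g.1 g.2 y ∈ (FSch.cAwayToAtPrime A J 𝔭 k hk).range := by
        rintro k hk rfl
        exact ⟨_, cAway_trans A J 𝔭 g.1 f.1 g.2 hk y⟩
      exact key _ hfg (mul_comm _ _)

theorem evalₐ_cAwayToAtPrime (f : A) (hf : f ∉ 𝔭) (n : ℕ) (y : FSch.cAway A J f) (r : Localization.Away f)
    (hr : AdicCompletion.evalₐ _ n y = Ideal.Quotient.mk _ r) :
    AdicCompletion.evalₐ _ n (FSch.cAwayToAtPrime A J 𝔭 f hf y) =
      Ideal.Quotient.mk _ (FSch.awayToAtPrime A 𝔭 f hf r) :=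
  (evalₐ_complMap _ _ _ _ n y).trans (by rw [hr, Ideal.quotientMap_mk])

theorem isUnit_stalkSubring_of_isUnit (hJ : J ≤ 𝔭) (x : FSch.stalkSubring A J 𝔭)
    (hx : IsUnit (x : FSch.cAtPrime A J 𝔭)) : IsUnit x := by
  obtain ⟨f, hf, y, hy⟩ := (mem_iff A J 𝔭 _).1 x.2
  obtain ⟨r, hr⟩ := Ideal.Quotient.mk_surjective (AdicCompletion.evalₐ
    (J.map (algebraMap A (Localization.Away f))) 1 y)
  obtain ⟨⟨a, s, k, rfl⟩, hras⟩ := IsLocalization.surj (Submonoid.powers f) r
  have hu : IsUnit (FSch.awayToAtPrime A 𝔭 f hf r) := by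
    rw [← hy, isUnit_iff, evalₐ_cAwayToAtPrime A J 𝔭 f hf 1 y r hr.symm,
      eval_isUnit_iff A J 𝔭 hJ] at hx
    exact hx
  have ha : a ∉ 𝔭 := by
    have hu2 : IsUnit (algebraMap A (Localization.AtPrime 𝔭) a) := by
      have e := congrArg (FSch.awayToAtPrime A 𝔭 f hf) hras
      simp only [map_mul] at e
      rw [show FSch.awayToAtPrime A 𝔭 f hf (algebraMap A _ a) =
        algebraMap A (Localization.AtPrime 𝔭) a from IsLocalization.Away.lift_eq _ _ _] at e
      rw [← e]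
      refine hu.mul ?_
      rw [show FSch.awayToAtPrime A 𝔭 f hf (algebraMap A _ (f ^ k)) =
        algebraMap A (Localization.AtPrime 𝔭) (f ^ k) from IsLocalization.Away.lift_eq _ _ _]
      exact IsLocalization.map_units (Localization.AtPrime 𝔭)
        ⟨f ^ k, show f ^ k ∈ 𝔭.primeCompl from fun h => hf (h𝔭.mem_of_pow_mem _ h)⟩
    exact (IsLocalization.AtPrime.isUnit_to_map_iff (Localization.AtPrime 𝔭) 𝔭 a).1 hu2
  have hfa : f * a ∉ 𝔭 := fun h => (h𝔭.mem_or_mem h).elim hf ha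
  let y' : FSch.cAway A J (f * a) := FSch.complMap _ _ (awayMap A f a) (map_awayMap_le A J f a) y
  have hy' : IsUnit y' := by
    rw [isUnit_iff, evalₐ_complMap, ← hr, Ideal.quotientMap_mk]
    refine IsUnit.map _ ?_
    have e := congrArg (awayMap A f a) hras
    simp only [map_mul] at e
    rw [show awayMap A f a (algebraMap A _ a) = algebraMap A (Localization.Away (f * a)) a from
      IsLocalization.Away.lift_eq _ _ _] at e
    have h2 : IsUnit (algebraMap A (Localization.Away (f * a)) a) := by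
      have := IsLocalization.Away.algebraMap_isUnit (S := Localization.Away (f * a)) (f * a)
      rw [map_mul] at this
      exact isUnit_of_mul_isUnit_right this
    rw [← e] at h2
    exact isUnit_of_mul_isUnit_left h2
  obtain ⟨z, hz⟩ := hy'.exists_right_inv
  refine isUnit_iff_exists_inv.2
    ⟨⟨FSch.cAwayToAtPrime A J 𝔭 (f * a) hfa z, (mem_iff A J 𝔭 _).2 ⟨f * a, hfa, z, rfl⟩⟩, ?_⟩
  refine Subtype.ext ?_
  show (x : FSch.cAtPrime A J 𝔭) * _ = 1
  rw [← hy, ← cAway_trans A J 𝔭 f a hf hfa y, ← map_mul, hz, map_one]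

theorem of_mem (r : Localization.AtPrime 𝔭) :
    AdicCompletion.of (J.map (algebraMap A (Localization.AtPrime 𝔭))) (Localization.AtPrime 𝔭) r ∈
      FSch.stalkSubring A J 𝔭 := by
  obtain ⟨⟨a, s, hs⟩, hras⟩ := IsLocalization.surj 𝔭.primeCompl r
  refine (mem_iff A J 𝔭 _).2 ⟨s, hs, AdicCompletion.of _ _
    (IsLocalization.mk' (Localization.Away s) a ⟨s, Submonoid.mem_powers s⟩), ?_⟩
  refine (complMap_of _ _ _ _ _).trans (congrArg _ ?_)
  rw [FSch.awayToAtPrime, IsLocalization.Away.lift, IsLocalization.lift_mk'_spec]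
  rw [mul_comm] at hras
  exact hras.symm

theorem isLocalRing_and_isLocalHom (hJ : J ≤ 𝔭) :
    IsLocalRing (FSch.stalkSubring A J 𝔭) ∧ IsLocalHom (FSch.stalkSubring A J 𝔭).subtype := by
  have := isLocalRing_cAtPrime A J 𝔭 hJ
  have hl : IsLocalHom (FSch.stalkSubring A J 𝔭).subtype :=
    ⟨fun x hx => isUnit_stalkSubring_of_isUnit A J 𝔭 hJ x hx⟩
  exact ⟨RingHom.domain_isLocalRing (FSch.stalkSubring A J 𝔭).subtype, hl⟩

theorem residueField_bijective (hJ : J ≤ 𝔭) [IsLocalRing (FSch.stalkSubring A J 𝔭)]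
    [IsLocalRing (FSch.cAtPrime A J 𝔭)]
    [IsLocalHom (FSch.stalkSubring A J 𝔭).subtype]
    [IsLocalHom (algebraMap (Localization.AtPrime 𝔭) (FSch.cAtPrime A J 𝔭))] :
    Function.Bijective (IsLocalRing.ResidueField.map (FSch.stalkSubring A J 𝔭).subtype) ∧
      Function.Bijective
        (IsLocalRing.ResidueField.map (algebraMap (Localization.AtPrime 𝔭) (FSch.cAtPrime A J 𝔭))) := by
  have key : ∀ z : IsLocalRing.ResidueField (FSch.cAtPrime A J 𝔭), ∃ r : Localization.AtPrime 𝔭,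
      IsLocalRing.residue _ (AdicCompletion.of (J.map (algebraMap A (Localization.AtPrime 𝔭)))
        (Localization.AtPrime 𝔭) r) = z := by
    intro z
    obtain ⟨x, rfl⟩ := IsLocalRing.residue_surjective z
    obtain ⟨r, hr⟩ := exists_rep A J 𝔭 x
    refine ⟨r, (Ideal.Quotient.eq (I := IsLocalRing.maximalIdeal (FSch.cAtPrime A J 𝔭))).2 ?_⟩
    rw [IsLocalRing.mem_maximalIdeal, mem_nonunits_iff, isUnit_iff, map_sub,
      AdicCompletion.evalₐ_of, hr, sub_self, ← map_zero (Ideal.Quotient.mk _),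
      eval_isUnit_iff A J 𝔭 hJ]
    exact not_isUnit_zero
  refine ⟨⟨RingHom.injective _, fun z => ?_⟩, ⟨RingHom.injective _, fun z => ?_⟩⟩
  · obtain ⟨r, rfl⟩ := key z
    exact ⟨IsLocalRing.residue _ ⟨_, of_mem A J 𝔭 r⟩,
      IsLocalRing.ResidueField.map_residue _ _⟩
  · obtain ⟨r, rfl⟩ := key z
    exact ⟨IsLocalRing.residue _ r, IsLocalRing.ResidueField.map_residue _ _⟩

end Groth.Agent.Adic.StalkRing
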