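import Groth.Agent.Adic.ComplLift
import Groth.Agent.Adic.StalkRing
import Mathlib.RingTheory.AdicCompletion.LocalRing
import Mathlib.RingTheory.AdicCompletion.AsTensorProduct
import Mathlib.RingTheory.Localization.Submodule
import Mathlib.RingTheory.RingHom.Flat
import Groth.Agent.RegLoc.AdicNoeth

/-!
Completed rings of fractions are flat over each other.
-/

universe u

namespace Groth.Agent.Adic.ComplFlat

variable {A : Type u} [CommRing A] [IsNoetherianRing A] (J : Ideal A)

/-- The `J`-adic completion of an `A`-algebra. -/
abbrev Cpl (C : Type u) [CommRing C] [Algebra A C] : Type u :=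
  AdicCompletion (J.map (algebraMap A C)) C

instance isAdicComplete (C : Type u) [CommRing C] [Algebra A C] :
    IsAdicComplete (J.map (algebraMap A (Cpl J C))) (Cpl J C) := by
  have := AdicCompletion.isAdicComplete_self (I := J.map (algebraMap A C))
    (Ideal.FG.map (IsNoetherian.noetherian J) _)
  rwa [Ideal.map_map, ← IsScalarTower.algebraMap_eq] at this

/-- `C → Ĉ` over `A`. -/
noncomputable def ofₐ (C : Type u) [CommRing C] [Algebra A C] : C →ₐ[A] Cpl J C :=
  IsScalarTower.toAlgHom A C (Cpl J C)

theorem complMap_flat (S' S : Submonoid A)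
    (g : Localization S' →+* Localization S)
    (hg : g.comp (algebraMap A (Localization S')) = algebraMap A (Localization S))
    (hJ : (J.map (algebraMap A (Localization S'))).map g ≤ J.map (algebraMap A (Localization S))) :
    (FSch.complMap (J.map (algebraMap A (Localization S'))) (J.map (algebraMap A (Localization S)))
      g hJ).Flat := by
  have hJfg : J.FG := IsNoetherian.noetherian J
  let B := Cpl J (Localization S')
  let C := Cpl J (Localization S)
  let BS := Localization (S.map (algebraMap A B))
  let T := Cpl J BS
  let gA : Localization S' →ₐ[A] Localization S :=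
    { g with commutes' := fun a => RingHom.congr_fun hg a }
  let μ : B →ₐ[A] C := complLift J ((ofₐ J (Localization S)).comp gA)
  have hμ : FSch.complMap (J.map (algebraMap A (Localization S')))
      (J.map (algebraMap A (Localization S))) g hJ = μ.toRingHom := by
    let νA : B →ₐ[A] C :=
      { FSch.complMap (J.map (algebraMap A (Localization S')))
          (J.map (algebraMap A (Localization S))) g hJ with
        commutes' := fun a => (StalkRing.complMap_of _ _ g hJ _).trans
          (congrArg (AdicCompletion.of _ _) (RingHom.congr_fun hg a)) }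
    have : νA = μ := complExt J hJfg νA μ fun x =>
      (StalkRing.complMap_of _ _ g hJ x).trans
        (complLift_of J ((ofₐ J (Localization S)).comp gA) x).symm
    exact congrArg AlgHom.toRingHom this
  rw [hμ]
  have hu : ∀ y : S.map (algebraMap A B), IsUnit (μ y) := by
    rintro ⟨_, s, hs, rfl⟩
    rw [AlgHom.commutes, IsScalarTower.algebraMap_apply A (Localization S) C]
    exact (IsLocalization.map_units (Localization S) ⟨s, hs⟩).map _
  let θ : BS →ₐ[A] C := IsLocalization.liftAlgHom (M := S.map (algebraMap A B)) (f := μ) hu
  have hθ : ∀ b : B, θ (algebraMap B BS b) = μ b := fun b =>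
    IsLocalization.lift_eq (S := BS) (M := S.map (algebraMap A B)) hu b
  let Θ : T →ₐ[A] C := complLift J θ
  have huT : ∀ y : S, IsUnit ((Algebra.ofId A T) y) := by
    rintro ⟨s, hs⟩
    rw [Algebra.ofId_apply, IsScalarTower.algebraMap_apply A BS T,
      IsScalarTower.algebraMap_apply A B BS]
    exact (IsLocalization.map_units BS ⟨_, Submonoid.mem_map_of_mem _ hs⟩).map _
  let ι : Localization S →ₐ[A] T := IsLocalization.liftAlgHom (M := S) (f := Algebra.ofId A T) huT
  let Ι : C →ₐ[A] T := complLift J ι
  have h1 : Θ.comp Ι = AlgHom.id A C := by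
    refine complExt J hJfg _ _ fun x => ?_
    rw [AlgHom.comp_apply, complLift_of, AlgHom.id_apply]
    exact AlgHom.congr_fun (IsLocalization.algHom_ext S
      (f := Θ.comp ι) (g := ofₐ J (Localization S)) (Subsingleton.elim _ _)) x
  have h2 : Ι.comp Θ = AlgHom.id A T := by
    refine complExt J hJfg _ _ fun x => ?_
    rw [AlgHom.comp_apply, complLift_of, AlgHom.id_apply]
    have e : Ι.comp μ = (IsScalarTower.toAlgHom A BS T).comp (IsScalarTower.toAlgHom A B BS) := by
      refine complExt J hJfg _ _ fun y => ?_
      have : Ι.comp (μ.comp (ofₐ J (Localization S'))) =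
          ((IsScalarTower.toAlgHom A BS T).comp (IsScalarTower.toAlgHom A B BS)).comp
            (ofₐ J (Localization S')) :=
        IsLocalization.algHom_ext S' (Subsingleton.elim _ _)
      exact AlgHom.congr_fun this y
    exact AlgHom.congr_fun (IsLocalization.algHom_ext (S.map (algebraMap A B)) (A := B)
      (f := { (Ι.comp θ).toRingHom with
        commutes' := fun b => (congrArg Ι (hθ b)).trans (AlgHom.congr_fun e b) })
      (g := IsScalarTower.toAlgHom B BS T) (Subsingleton.elim _ _)) x
  have hBn : IsNoetherianRing B := by
    have : IsNoetherianRing (Localization S') := IsLocalization.isNoetherianRing S' _ ‹_›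
    exact RegLoc.AdicNoeth.isNoetherianRing_adicCompletion _ (IsNoetherian.noetherian _)
  have : IsNoetherianRing BS := IsLocalization.isNoetherianRing (S.map (algebraMap A B)) BS hBn
  have hbij : Function.Bijective Θ.toRingHom :=
    Function.bijective_iff_has_inverse.2 ⟨Ι, AlgHom.congr_fun h2, AlgHom.congr_fun h1⟩
  have f1 : (algebraMap B BS).Flat :=
    RingHom.flat_algebraMap_iff.2 (IsLocalization.flat BS (S.map (algebraMap A B)))
  have f2 : (algebraMap BS T).Flat :=
    RingHom.flat_algebraMap_iff.2 inferInstance
  have hfac : μ.toRingHom = (Θ.toRingHom.comp (algebraMap BS T)).comp (algebraMap B BS) := by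
    refine RingHom.ext fun b => ?_
    exact ((complLift_of J θ _).trans (hθ b)).symm
  rw [hfac]
  exact f1.comp (f2.comp (RingHom.Flat.of_bijective hbij))

end Groth.Agent.Adic.ComplFlat
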