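import Mathlib.RingTheory.Flat.Stability
import Mathlib.RingTheory.Flat.Localization
import Mathlib.RingTheory.Flat.EquationalCriterion
import Mathlib.RingTheory.Flat.Equalizer
import Mathlib.RingTheory.Localization.BaseChange
import Mathlib.Algebra.Module.Torsion.Basic
import Mathlib.RingTheory.Localization.Away.Basic
import Mathlib.LinearAlgebra.TensorProduct.Quotient

/-!
Flatness from: no `π`-torsion, flat modulo `π`, flat away from `π`.
-/

universe u v v₁ v₂ v₃ w

open TensorProduct

namespace Groth.Agent.Adic.FlatAway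

variable {A : Type u} [CommRing A] {M : Type v} [AddCommGroup M] [Module A M]

local notation "π₀" => (Finsupp.linearCombination A (id : M → M))

/-- `Tor₁(M, N) = 0` via the tautological presentation. -/
def Good (M : Type v) [AddCommGroup M] [Module A M] (N : Type w) [AddCommGroup N] [Module A N] :
    Prop :=
  Function.Injective ((LinearMap.ker (Finsupp.linearCombination A (id : M → M))).subtype.rTensor N)

lemma lTensor_injective_of_good {N₁ : Type v₁} [AddCommGroup N₁] [Module A N₁] {N₂ : Type v₂}
    [AddCommGroup N₂] [Module A N₂] {N₃ : Type v₃} [AddCommGroup N₃] [Module A N₃]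
    {g : N₁ →ₗ[A] N₂} {p : N₂ →ₗ[A] N₃} (hg : Function.Injective g)
    (hp : Function.Surjective p) (hex : Function.Exact g p) (h : Good (A := A) M N₃) :
    Function.Injective (g.lTensor M) := by
  let ι := (LinearMap.ker π₀).subtype
  let π : (M →₀ A) →ₗ[A] M := π₀
  let K := LinearMap.ker π
  have hι : Function.Exact ι π := LinearMap.exact_subtype_ker_map π
  have hπ : Function.Surjective π := Finsupp.linearCombination_id_surjective A M
  rw [injective_iff_map_eq_zero]
  intro ξ hξ
  obtain ⟨ξ', rfl⟩ := LinearMap.rTensor_surjective N₁ hπ ξ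
  have h1 : π.rTensor N₂ (g.lTensor (M →₀ A) ξ') = 0 := by
    rw [← LinearMap.comp_apply, LinearMap.rTensor_comp_lTensor, ← LinearMap.lTensor_comp_rTensor]
    exact hξ
  obtain ⟨κ, hκ⟩ := (rTensor_exact (R := A) (M := K) (N := M →₀ A) (P := M) N₂ hι hπ _).mp h1
  have h2 : p.lTensor K κ = 0 := by
    refine h ?_
    rw [map_zero, ← LinearMap.comp_apply, LinearMap.rTensor_comp_lTensor,
      ← LinearMap.lTensor_comp_rTensor, LinearMap.comp_apply]
    show p.lTensor (M →₀ A) (ι.rTensor N₂ κ) = 0
    rw [hκ, ← LinearMap.lTensor_comp_apply, hex.linearMap_comp_eq_zero, LinearMap.lTensor_zero,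
      LinearMap.zero_apply]
  obtain ⟨κ₁, rfl⟩ := (lTensor_exact (R := A) K hex hp κ).mp h2
  have h3 : ξ' = ι.rTensor N₁ κ₁ := by
    refine Module.Flat.lTensor_preserves_injective_linearMap (M := M →₀ A) g hg ?_
    rw [← hκ, ← LinearMap.comp_apply, LinearMap.rTensor_comp_lTensor, ← LinearMap.lTensor_comp_rTensor]
    rfl
  rw [h3, ← LinearMap.rTensor_comp_apply, hι.linearMap_comp_eq_zero, LinearMap.rTensor_zero,
    LinearMap.zero_apply]

variable {π : A}

lemma ker_lTensor_quot_injective (htf : ∀ x : M, π • x = 0 → x = 0) :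
    Function.Injective ((LinearMap.ker π₀).subtype.lTensor (A ⧸ Ideal.span {π})) := by
  rw [injective_iff_map_eq_zero]
  intro z hz
  obtain ⟨k, rfl⟩ : ∃ k : LinearMap.ker π₀, (1 : A ⧸ Ideal.span {π}) ⊗ₜ[A] k = z :=
    TensorProduct.mk_surjective A _ (A ⧸ Ideal.span {π}) Ideal.Quotient.mk_surjective z
  rw [LinearMap.lTensor_tmul] at hz
  have hk : (k : M →₀ A) ∈ Ideal.span {π} • (⊤ : Submodule A (M →₀ A)) := by
    have h0 := congrArg (TensorProduct.quotTensorEquivQuotSMul (M →₀ A) (Ideal.span {π})) hz
    rw [map_zero, ← map_one (Ideal.Quotient.mk (Ideal.span {π})),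
      TensorProduct.quotTensorEquivQuotSMul_mk_tmul, Submodule.Quotient.mk_eq_zero, one_smul] at h0
    exact h0
  rw [Submodule.ideal_span_singleton_smul] at hk
  obtain ⟨f, -, hf⟩ := hk
  have hf0 : π₀ f = 0 := by
    refine htf _ ?_
    rw [← map_smul, show π • f = (k : M →₀ A) from hf]
    exact k.2
  have : k = π • (⟨f, hf0⟩ : LinearMap.ker π₀) := Subtype.ext hf.symm
  rw [this, ← TensorProduct.smul_tmul, Algebra.smul_def, mul_one, Ideal.Quotient.algebraMap_eq,
    Ideal.Quotient.eq_zero_iff_mem.2 (Ideal.mem_span_singleton_self π), TensorProduct.zero_tmul]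

lemma good_of_killed (htf : ∀ x : M, π • x = 0 → x = 0)
    [Module.Flat (A ⧸ Ideal.span {π}) ((A ⧸ Ideal.span {π}) ⊗[A] M)]
    (N : Type w) [AddCommGroup N] [Module A N] [Module (A ⧸ Ideal.span {π}) N]
    [IsScalarTower A (A ⧸ Ideal.span {π}) N] : Good (A := A) M N := by
  let S := A ⧸ Ideal.span {π}
  let p : (M →₀ A) →ₗ[A] M := π₀
  let K := LinearMap.ker p
  let g : S ⊗[A] K →ₗ[S] S ⊗[A] (M →₀ A) := K.subtype.baseChange S
  have hg : Function.Injective g := by
    rw [LinearMap.baseChange_eq_ltensor]; exact ker_lTensor_quot_injective htf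
  have hπ : Function.Surjective (p.baseChange S) := by
    rw [LinearMap.baseChange_eq_ltensor]
    exact LinearMap.lTensor_surjective S (Finsupp.linearCombination_id_surjective A M)
  have hex : Function.Exact g (p.baseChange S) := by
    show Function.Exact (K.subtype.baseChange S) (p.baseChange S)
    rw [LinearMap.baseChange_eq_ltensor, LinearMap.baseChange_eq_ltensor]
    exact lTensor_exact (R := A) (M := K) (N := M →₀ A) (P := M) S (LinearMap.exact_subtype_ker_map p)
      (Finsupp.linearCombination_id_surjective A M)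
  have h1 := LinearMap.lTensor_injective_of_exact_of_flat (p.baseChange S) hπ g hg hex N
  let eK := TensorProduct.AlgebraTensorModule.cancelBaseChange A S S N K
  let eF := TensorProduct.AlgebraTensorModule.cancelBaseChange A S S N (M →₀ A)
  have key : ∀ z, eF (g.lTensor N z) = K.subtype.lTensor N (eK z) := fun z => by
    induction z with
    | zero => simp
    | tmul n w =>
      induction w with
      | zero => simp
      | tmul s k => simp [eK, eF, g]
      | add a b ha hb => simp only [TensorProduct.tmul_add, map_add, ha, hb]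
    | add a b ha hb => simp only [map_add, ha, hb]
  have h2 : Function.Injective (K.subtype.lTensor N) := by
    intro a b hab
    obtain ⟨a, rfl⟩ := eK.surjective a
    obtain ⟨b, rfl⟩ := eK.surjective b
    rw [← key, ← key] at hab
    exact congrArg eK (h1 (eF.injective hab))
  exact (LinearMap.lTensor_inj_iff_rTensor_inj _ _).mp h2

theorem flat (htf : ∀ x : M, π • x = 0 → x = 0) (hπ : π ∈ nonZeroDivisors A)
    [Module.Flat (A ⧸ Ideal.span {π}) ((A ⧸ Ideal.span {π}) ⊗[A] M)]
    [Module.Flat (Localization.Away π) (Localization.Away π ⊗[A] M)] : Module.Flat A M := by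
  rw [Module.Flat.iff_lTensor_injective']
  intro I
  have hreg : Function.Injective ((π • (LinearMap.id : I →ₗ[A] I)).lTensor M) := by
    let g : I →ₗ[A] I := π • LinearMap.id
    have hg : Function.Injective g := fun a b hab => Subtype.ext
      (mul_cancel_left_mem_nonZeroDivisors hπ |>.1 (congrArg Subtype.val hab))
    have hQ : Module.IsTorsionBySet A (I ⧸ LinearMap.range g) (Ideal.span {π} : Set A) := by
      intro x ⟨r, hr⟩
      obtain ⟨y, rfl⟩ := Submodule.Quotient.mk_surjective _ x
      obtain ⟨c, rfl⟩ := Ideal.mem_span_singleton'.1 hr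
      exact (Submodule.Quotient.mk_eq_zero _).2 ⟨c • y, by simp [g, smul_smul, mul_comm]⟩
    let _ := hQ.module
    have : IsScalarTower A (A ⧸ Ideal.span {π}) (I ⧸ LinearMap.range g) := hQ.isScalarTower
    exact lTensor_injective_of_good hg (Submodule.mkQ_surjective _)
      g.exact_map_mkQ_range (good_of_killed htf _)
  rw [injective_iff_map_eq_zero]
  intro x hx
  let Aπ := Localization.Away π
  have hflat : Module.Flat A (Aπ ⊗[A] M) := Module.Flat.trans A Aπ _
  let e := TensorProduct.assoc A Aπ M I
  let e' := TensorProduct.assoc A Aπ M A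
  have hkey : ∀ z, e' (I.subtype.lTensor (Aπ ⊗[A] M) z) =
      (I.subtype.lTensor M).lTensor Aπ (e z) := fun z => by
    induction z with
    | zero => simp
    | tmul a i =>
      induction a with
      | zero => simp
      | tmul s m => simp [e, e']
      | add a b ha hb => simp only [TensorProduct.add_tmul, map_add, ha, hb]
    | add a b ha hb => simp only [map_add, ha, hb]
  have h1 : (1 : Aπ) ⊗ₜ[A] x = (0 : Aπ ⊗[A] (M ⊗[A] I)) := by
    refine e.symm.injective ?_
    refine Module.Flat.lTensor_preserves_injective_linearMap (M := Aπ ⊗[A] M) I.subtype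
      Subtype.val_injective ?_
    refine e'.injective ?_
    rw [hkey, hkey, e.apply_symm_apply, e.apply_symm_apply, LinearMap.lTensor_tmul, hx,
      TensorProduct.tmul_zero, map_zero]
  obtain ⟨⟨_, n, rfl⟩, hn⟩ :=
    (IsLocalizedModule.eq_zero_iff (Submonoid.powers π) (TensorProduct.mk A Aπ (M ⊗[A] I) 1)).1 h1
  replace hn : π ^ n • x = 0 := hn
  induction n with
  | zero => simpa using hn
  | succ n ih =>
    refine ih (hreg ?_)
    rw [map_zero, LinearMap.lTensor_smul, LinearMap.lTensor_id, LinearMap.smul_apply,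
      LinearMap.id_apply, smul_smul, ← pow_succ']
    exact hn

end Groth.Agent.Adic.FlatAway
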