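import Groth.Prelude.Def_FSch3
import Groth.Agent.IdealSh.Comap

/-!
The ideal sheaf `FSch.idealSpec A J` on `Spec A`.
-/

universe u

open CategoryTheory AlgebraicGeometry

namespace Groth.Agent.Adic.IdealSpec

variable (A : Type u) [CommRing A] (J : Ideal A)

/-- `Γ(Spec A, ⊤) ≃+* A`. -/
noncomputable def gEquiv : Γ(Spec (CommRingCat.of A), ⊤) ≃+* A :=
  (Scheme.ΓSpecIso (CommRingCat.of A)).commRingCatIsoToRingEquiv

theorem gEquiv_comp {A B : Type u} [CommRing A] [CommRing B] (φ : A →+* B) :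
    (gEquiv B).toRingHom.comp (Spec.map (CommRingCat.ofHom φ)).appTop.hom =
      φ.comp (gEquiv A).toRingHom :=
  congrArg CommRingCat.Hom.hom (Scheme.ΓSpecIso_naturality (CommRingCat.ofHom φ))

theorem ker_Spec_map_eq {A B : Type u} [CommRing A] [CommRing B] (φ : A →+* B) :
    (Spec.map (CommRingCat.ofHom φ)).ker.ideal ⟨⊤, isAffineOpen_top _⟩ =
      (RingHom.ker φ).comap (gEquiv A).toRingHom := by
  rw [Scheme.ker_of_isAffine, Scheme.IdealSheafData.ofIdealTop_ideal]
  simp only [homOfLE_refl, op_id, CategoryTheory.Functor.map_id, CommRingCat.hom_id, Ideal.map_id]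
  rw [RingHom.comap_ker, ← gEquiv_comp φ, ← RingHom.comap_ker,
    (RingHom.injective_iff_ker_eq_bot (gEquiv B).toRingHom).1 (gEquiv B).injective]
  rfl

theorem ideal_idealSpec_top :
    (FSch.idealSpec A J).ideal ⟨⊤, isAffineOpen_top _⟩ = J.comap (gEquiv A).toRingHom := by
  rw [FSch.idealSpec, ker_Spec_map_eq, Ideal.mk_ker]

theorem map_gEquiv : (J.comap (gEquiv A).toRingHom).map (gEquiv A).toRingHom = J :=
  Ideal.map_comap_of_surjective _ (gEquiv A).surjective J

theorem eq_of_map_gEquiv {K L : Ideal Γ(Spec (CommRingCat.of A), ⊤)}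
    (h : K.map (gEquiv A).toRingHom = L.map (gEquiv A).toRingHom) : K = L := by
  have := congrArg (Ideal.comap (gEquiv A).toRingHom) h
  rwa [Ideal.comap_map_of_bijective (gEquiv A).toRingHom (gEquiv A).bijective,
    Ideal.comap_map_of_bijective (gEquiv A).toRingHom (gEquiv A).bijective] at this

theorem comap_idealSpec {A B : Type u} [CommRing A] [CommRing B] (φ : B →+* A) (b : Ideal B) :
    (FSch.idealSpec B b).comap (Spec.map (CommRingCat.ofHom φ)) =
      FSch.idealSpec A (b.map φ) := by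
  apply Scheme.IdealSheafData.ext_of_isAffine
  rw [ideal_idealSpec_top, IdealSh.Comap.ideal_comap_of_isAffine, ideal_idealSpec_top]
  apply eq_of_map_gEquiv
  rw [map_gEquiv, Ideal.map_map, gEquiv_comp φ, ← Ideal.map_map, map_gEquiv]

theorem idealSpec_le_iff (J' : Ideal A) :
    FSch.idealSpec A J ≤ FSch.idealSpec A J' ↔ J ≤ J' := by
  constructor
  · intro h
    have h1 := h ⟨⊤, isAffineOpen_top _⟩
    rw [ideal_idealSpec_top, ideal_idealSpec_top] at h1
    have := Ideal.map_mono (f := (gEquiv A).toRingHom) h1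
    rwa [map_gEquiv, map_gEquiv] at this
  · intro h
    refine Scheme.IdealSheafData.le_of_isAffine ?_
    rw [ideal_idealSpec_top, ideal_idealSpec_top]
    exact Ideal.comap_mono h

theorem idealSpec_pow (n : ℕ) :
    FSch.idealSpec A (J ^ n) = FSch.idealSpec A J ^ n := by
  apply Scheme.IdealSheafData.ext_of_isAffine
  rw [Scheme.IdealSheafData.ideal_pow, Pi.pow_apply, ideal_idealSpec_top, ideal_idealSpec_top]
  apply eq_of_map_gEquiv
  rw [map_gEquiv, Ideal.map_pow, map_gEquiv]

end Groth.Agent.Adic.IdealSpec
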