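import Groth.Prelude.Def_FSch2
import Groth.Agent.FlatMor.Thickening
import Mathlib.AlgebraicGeometry.Noetherian

/-!
Properties of the levels of an adic morphism of systems from the smallest level.
-/

universe u

open CategoryTheory Limits AlgebraicGeometry

namespace Groth.Agent.Adic.Levels

theorem isNilpotent_ker_ideal {X₀ X : Scheme.{u}} [IsLocallyNoetherian X] (j : X₀ ⟶ X)
    [IsClosedImmersion j] [Surjective j] (U : X.affineOpens) : IsNilpotent (j.ker.ideal U) := by
  have : IsNoetherianRing Γ(X, U) := IsLocallyNoetherian.component_noetherian U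
  obtain ⟨n, hn⟩ := IsNoetherianRing.isNilpotent_nilradical Γ(X, U)
  refine ⟨n, le_bot_iff.1 ?_⟩
  rw [j.ker_apply U]
  exact (pow_le_pow_left' (Thick.Unram.ker_app_le_nilradical j U.2) n).trans hn.le

variable {X₀ X Y₀ Y : Scheme.{u}} {F : X ⟶ Y} {F₀ : X₀ ⟶ Y₀} {i : X₀ ⟶ X} {j : Y₀ ⟶ Y}
  [IsLocallyNoetherian Y] [IsClosedImmersion j] [Surjective j]

theorem locallyOfFiniteType (hc : IsPullback i F₀ F j) [LocallyOfFiniteType F₀] :
    LocallyOfFiniteType F :=
  FlatMor.Thickening.locallyOfFiniteType_of_isPullback (isNilpotent_ker_ideal j) hc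

theorem isFinite (hc : IsPullback i F₀ F j) [IsFinite F₀] : IsFinite F :=
  FlatMor.Thickening.isFinite_of_isPullback (isNilpotent_ker_ideal j) hc

theorem isProper (hc : IsPullback i F₀ F j) [IsProper F₀] : IsProper F := by
  have : IsClosedImmersion i := MorphismProperty.of_isPullback hc.flip ‹IsClosedImmersion j›
  have : Surjective i := MorphismProperty.of_isPullback hc.flip ‹Surjective j›
  have := locallyOfFiniteType hc
  have : UniversallyClosed F := (Thick.Topo.universallyClosed_iff i j F₀ F hc.w).mp inferInstance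
  have : IsSeparated (i ≫ F) := hc.w ▸ inferInstance
  have : IsSeparated F := FlatMor.Thickening.isSeparated_of_comp_surjective i F
  exact {}

theorem isClosedImmersion (hc : IsPullback i F₀ F j) [IsClosedImmersion F₀] :
    IsClosedImmersion F := by
  have : IsClosedImmersion i := MorphismProperty.of_isPullback hc.flip ‹IsClosedImmersion j›
  have : Surjective i := MorphismProperty.of_isPullback hc.flip ‹Surjective j›
  have := locallyOfFiniteType hc
  have : Mono F := Thick.Unram.mono_of_locallyOfFiniteType hc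
  exact Thick.Unram.isClosedImmersion_of_mono i j F₀ F hc.w

/-- A property stable along such squares spreads from the smallest level to every level. -/
theorem app_of_isAdicHom {𝔛 𝔜 : FSch.Sys.{u}} (f : 𝔛 ⟶ 𝔜) (h : 𝔜.IsLocNoethFormal)
    (hf : FSch.IsAdicHom f) (P : MorphismProperty Scheme.{u})
    (hP : ∀ {X₀ X Y₀ Y : Scheme.{u}} {F : X ⟶ Y} {F₀ : X₀ ⟶ Y₀} {i : X₀ ⟶ X} {j : Y₀ ⟶ Y}
      [IsLocallyNoetherian Y] [IsClosedImmersion j] [Surjective j],
      IsPullback i F₀ F j → P F₀ → P F)
    (h0 : P ((f : FSch.Hom 𝔛 𝔜).app 0)) (n : ℕ) : P ((f : FSch.Hom 𝔛 𝔜).app n) := by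
  induction n with
  | zero => exact h0
  | succ n ih =>
    have : IsLocallyNoetherian (𝔜.X (n + 1)) := h.2.2 _
    have : IsClosedImmersion (𝔜.ι n) := (h.1 n).1
    have : Surjective (𝔜.ι n) := ⟨(h.1 n).2⟩
    exact hP (hf n) ih

end Groth.Agent.Adic.Levels
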