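import Groth.Agent.Adic.Levels
import Groth.Agent.CAlg48.FlatFS
import Mathlib.AlgebraicGeometry.Morphisms.Smooth

universe u

open CategoryTheory Limits AlgebraicGeometry

namespace Groth.Agent.Adic.LevelsSmooth

/-- Flat maps which become smooth modulo a nilpotent ideal are smooth. -/
theorem smooth_of_pushout {A' B' A B : CommRingCat.{u}} {φ' : A' ⟶ B'} {π : A' ⟶ A} {ψ : B' ⟶ B}
    {φ : A ⟶ B} [IsNoetherianRing A'] (h : IsPushout φ' π ψ φ) (hπ : Function.Surjective π.hom)
    (hn : IsNilpotent (RingHom.ker π.hom)) (hflat : φ'.hom.Flat) (hft : φ'.hom.FiniteType)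
    (hs : φ.hom.Smooth) : φ'.hom.Smooth := by
  obtain ⟨hψ, hker⟩ := Thick.Ring.pushout_surjection h hπ
  algebraize [φ'.hom]
  let eA : (A' ⧸ RingHom.ker π.hom) ≃+* A := RingHom.quotientKerEquivOfSurjective hπ
  let eB : (B' ⧸ (RingHom.ker π.hom).map φ'.hom) ≃+* B :=
    (Ideal.quotEquivOfEq hker.symm).trans (RingHom.quotientKerEquivOfSurjective hψ)
  have hq : (algebraMap (A' ⧸ RingHom.ker π.hom)
      (B' ⧸ (RingHom.ker π.hom).map (algebraMap A' B'))) =
      eB.symm.toRingHom.comp (φ.hom.comp eA.toRingHom) := by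
    refine Ideal.Quotient.ringHom_ext (RingHom.ext fun a => ?_)
    refine eB.injective ?_
    refine Eq.trans ?_ (eB.apply_symm_apply _).symm
    exact congr($(h.w).hom a)
  have hsq : RingHom.Smooth (algebraMap (A' ⧸ RingHom.ker π.hom)
      (B' ⧸ (RingHom.ker π.hom).map (algebraMap A' B'))) := by
    rw [hq]
    exact RingHom.Smooth.respectsIso.1 _ eB.symm (RingHom.Smooth.respectsIso.2 _ eA hs)
  rw [RingHom.smooth_algebraMap] at hsq
  have hfs : Algebra.FormallySmooth A' B' :=
    CAlg48.FlatFS.formallySmooth (RingHom.ker π.hom) hn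
  show (algebraMap A' B').Smooth
  rw [RingHom.smooth_algebraMap]
  exact ⟨hfs, Algebra.FinitePresentation.of_finiteType.1 ‹_›⟩

variable {X₀ X Y₀ Y : Scheme.{u}} {F : X ⟶ Y} {F₀ : X₀ ⟶ Y₀} {i : X₀ ⟶ X} {j : Y₀ ⟶ Y}
  [IsLocallyNoetherian Y] [IsClosedImmersion j] [Surjective j]

theorem smooth (hc : IsPullback i F₀ F j) [Flat F] [AlgebraicGeometry.Smooth F₀] :
    AlgebraicGeometry.Smooth F := by
  have : IsAffineHom i := MorphismProperty.of_isPullback hc.flip (inferInstanceAs (IsAffineHom j))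
  have := Levels.locallyOfFiniteType hc
  rw [HasRingHomProperty.iff_appLE (P := @AlgebraicGeometry.Smooth)]
  intro V U e
  obtain ⟨h', h⟩ := Thick.Unram.isPushout_appLE hc V.2 U.2 e
  have : IsNoetherianRing Γ(Y, V.1) := IsLocallyNoetherian.component_noetherian V
  have hn : IsNilpotent (RingHom.ker (j.app V.1).hom) := by
    rw [← j.ker_apply V]
    exact Levels.isNilpotent_ker_ideal j V
  exact smooth_of_pushout h (Thick.Unram.app_surjective j V.2) hn
    (HasRingHomProperty.appLE @Flat F ‹_› V U e)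
    (HasRingHomProperty.appLE @LocallyOfFiniteType F ‹_› V U e)
    (HasRingHomProperty.appLE @AlgebraicGeometry.Smooth F₀ ‹_› ⟨_, V.2.preimage j⟩
      ⟨_, U.2.preimage i⟩ h')

end Groth.Agent.Adic.LevelsSmooth
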