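import Groth.Agent.Adic.Basic

/-!
Inverse limits of systems `M (n+1) → M n` of surjective maps with kernels `I^(n+1) M (n+1)`.
-/

namespace Groth.Agent.Adic

open Submodule

universe u v w

/-- An inverse system with surjective transition maps with kernels `I^(n+1) M_(n+1)`, and a limit. -/
structure LimSys (A : Type u) [CommRing A] (I : Ideal A) (M : ℕ → Type v)
    [∀ n, AddCommGroup (M n)] [∀ n, Module A (M n)]
    (f : ∀ n, M (n + 1) →ₗ[A] M n) (L : Type w) [AddCommGroup L] [Module A L]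
    (π : ∀ n, L →ₗ[A] M n) : Prop where
  surj : ∀ n, Function.Surjective (f n)
  ker_eq : ∀ n, LinearMap.ker (f n) = I ^ (n + 1) • (⊤ : Submodule A (M (n + 1)))
  compat : ∀ n, f n ∘ₗ π (n + 1) = π n
  inj : ∀ x : L, (∀ n, π n x = 0) → x = 0
  lift : ∀ y : (∀ n, M n), (∀ n, f n (y (n + 1)) = y n) → ∃ x : L, ∀ n, π n x = y n

namespace LimSys

variable {A : Type u} [CommRing A] {I : Ideal A} {M : ℕ → Type v}
    [∀ n, AddCommGroup (M n)] [∀ n, Module A (M n)]
    {f : ∀ n, M (n + 1) →ₗ[A] M n} {L : Type w} [AddCommGroup L] [Module A L]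
    {π : ∀ n, L →ₗ[A] M n}

variable (h : LimSys A I M f L π)
include h

theorem killed (n : ℕ) : I ^ (n + 1) • (⊤ : Submodule A (M n)) = ⊥ := by
  rw [← LinearMap.range_eq_top.2 (h.surj n), LinearMap.range_eq_map, ← map_smul'',
    ← h.ker_eq n, Submodule.eq_bot_iff]
  rintro x ⟨y, hy, rfl⟩
  exact hy

theorem compat_apply (n : ℕ) (x : L) : f n (π (n + 1) x) = π n x := by
  rw [← h.compat n]; rfl

theorem ker_le_ker {m n : ℕ} (hmn : m ≤ n) : LinearMap.ker (π n) ≤ LinearMap.ker (π m) := by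
  induction hmn with
  | refl => exact le_rfl
  | step _ ih =>
    refine le_trans (fun x hx => ?_) ih
    rw [LinearMap.mem_ker] at hx ⊢
    rw [← h.compat_apply, hx, map_zero]

theorem smul_le_ker {n k : ℕ} (hk : n + 1 ≤ k) :
    I ^ k • (⊤ : Submodule A L) ≤ LinearMap.ker (π n) := by
  rw [Submodule.smul_le]
  intro a ha x _
  have : a • π n x ∈ (⊥ : Submodule A (M n)) := by
    rw [← h.killed n]
    exact smul_mem_smul (Ideal.pow_le_pow_right hk ha) trivial
  simpa using this

theorem surjective_proj (n : ℕ) : Function.Surjective (π n) := by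
  induction n with
  | zero =>
    intro y
    choose g hg using fun n => h.surj n
    let s : ∀ n, M n := fun n => Nat.rec (motive := fun n => M n) y (fun k x => g k x) n
    obtain ⟨x, hx⟩ := h.lift s (fun n => hg n _)
    exact ⟨x, hx 0⟩
  | succ n ih =>
    have h2 : (⊤ : Submodule A (M (n + 1))) =
        LinearMap.range (π (n + 1)) ⊔ I ^ (n + 1) • ⊤ := by
      refine le_antisymm (fun y _ => ?_) le_top
      obtain ⟨x, hx⟩ := ih (f n y)
      rw [show y = π (n + 1) x + (y - π (n + 1) x) by abel]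
      refine Submodule.add_mem_sup (LinearMap.mem_range_self _ x) ?_
      rw [← h.ker_eq n, LinearMap.mem_ker, map_sub, h.compat_apply, hx, sub_self]
    have h3 : I ^ (n + 1) • (⊤ : Submodule A (M (n + 1))) ≤ LinearMap.range (π (n + 1)) := by
      conv_lhs => rw [h2]
      rw [smul_sup, ← Submodule.smul_assoc, smul_eq_mul, ← pow_add]
      refine sup_le Submodule.smul_le_right (le_trans ?_ bot_le)
      rw [← h.killed (n + 1)]
      exact smul_mono_left (Ideal.pow_le_pow_right (by omega))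
    rw [← LinearMap.range_eq_top, h2, eq_comm, sup_eq_left]
    exact h3

theorem mem_smul_of_ker {n m : ℕ} (hm : n ≤ m) {x : L} (hx : π n x = 0) :
    π m x ∈ I ^ (n + 1) • (⊤ : Submodule A (M m)) := by
  induction hm with
  | refl => rw [hx]; exact zero_mem _
  | @step m hnm ih =>
    have hnm' : n ≤ m := hnm
    rw [← h.compat_apply] at ih
    obtain ⟨y, hy, hyx⟩ := exists_preimage_mem_smul (f m) (h.surj m) _ _ ih
    rw [show π (m + 1) x = y + (π (m + 1) x - y) by abel]
    refine add_mem hy (SetLike.le_def.1 (smul_mono_left (Ideal.pow_le_pow_right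
      (show n + 1 ≤ m + 1 by omega))) ?_)
    rw [← h.ker_eq m, LinearMap.mem_ker, map_sub, hyx, sub_self]

theorem exists_sub_mem_ker {n m : ℕ} (hm : n ≤ m) {x : L} (hx : π n x = 0) :
    ∃ x' ∈ I ^ (n + 1) • (⊤ : Submodule A L), π m (x - x') = 0 := by
  obtain ⟨x', hx', e⟩ := exists_preimage_mem_smul (π m) (h.surjective_proj m) _ _
    (h.mem_smul_of_ker hm hx)
  exact ⟨x', hx', by rw [map_sub, e, sub_self]⟩

theorem isHausdorff : IsHausdorff I L :=
  ⟨fun x hx => h.inj x fun n =>
    h.smul_le_ker le_rfl (SModEq.zero.1 (hx (n + 1)))⟩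

omit h in
private theorem exists_succ_seq {X : Type*} (P : ℕ → X → Prop) (R : ℕ → X → X → Prop)
    (x₀ : X) (h0 : P 0 x₀) (hs : ∀ n x, P n x → ∃ y, P (n + 1) y ∧ R n x y) :
    ∃ s : ℕ → X, s 0 = x₀ ∧ (∀ n, P n (s n)) ∧ ∀ n, R n (s n) (s (n + 1)) := by
  choose g hg hg' using hs
  let s : ∀ n, {x // P n x} := fun n =>
    Nat.rec (motive := fun n => {x // P n x}) ⟨x₀, h0⟩ (fun k p => ⟨g k p.1 p.2, hg k p.1 p.2⟩) n
  exact ⟨fun n => (s n).1, rfl, fun n => (s n).2, fun n => hg' n _ _⟩

/-- Kernels of the projections for a finitely generated ideal. -/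
theorem ker_proj_of_fg (hI : I.FG) (n : ℕ) :
    LinearMap.ker (π n) = I ^ (n + 1) • (⊤ : Submodule A L) := by
  refine le_antisymm ?_ (h.smul_le_ker le_rfl)
  intro x hx
  obtain ⟨s, hs⟩ := hI.pow (n := n + 1)
  -- the map `(s → L) → L`
  let Φ : (↥s → L) →ₗ[A] L :=
    ∑ a : ↥s, (a : A) • (LinearMap.proj (R := A) (φ := fun _ : ↥s => L) a)
  have hΦ : ∀ k, (I ^ (n + 1 + k) • ⊤ : Submodule A L) ≤
      (I ^ k • (⊤ : Submodule A (↥s → L))).map Φ := by
    intro k
    rw [map_smul'', pow_add, mul_comm, Submodule.mul_smul]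
    refine smul_mono_right _ ?_
    rw [← hs, Ideal.span]
    rw [Submodule.span_smul_eq]
    rw [Submodule.set_smul_le_iff]
    intro a z ha _
    classical
    refine ⟨Pi.single ⟨a, ha⟩ z, trivial, ?_⟩
    simp [Φ, Finset.sum_apply, Pi.single_apply, apply_ite, eq_comm]
  obtain ⟨S, hS0, hS, hSd⟩ := exists_succ_seq
    (fun k (z : ↥s → L) => π (n + k) (x - Φ z) = 0)
    (fun k z z' => z' - z ∈ I ^ k • (⊤ : Submodule A (↥s → L)))
    0 (by simpa using hx) (fun k z hz => by
      obtain ⟨x', hx', e⟩ := h.exists_sub_mem_ker (Nat.le_succ (n + k)) hz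
      rw [show n + k + 1 = n + 1 + k by omega] at hx'
      obtain ⟨d, hd, rfl⟩ := hΦ k hx'
      refine ⟨z + d, ?_, by simpa using hd⟩
      rw [map_add, ← sub_sub]
      exact e)
  -- the limit of `S k`
  have hc : ∀ (a : ↥s), ∃ w : L, ∀ k, π k w = π k (S (k + 1) a) := fun a =>
    h.lift (fun k => π k (S (k + 1) a)) (fun k => by
      rw [h.compat_apply, ← sub_eq_zero, ← map_sub, ← LinearMap.mem_ker]
      exact h.smul_le_ker le_rfl (apply_mem_smul _ (hSd (k + 1)) a))
  choose w hw using hc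
  have hx' : x = Φ w := by
    rw [← sub_eq_zero]
    refine h.inj _ fun k => ?_
    have h1 : π k (x - Φ (S (k + 1))) = 0 :=
      h.ker_le_ker (show k ≤ n + (k + 1) by omega) (hS (k + 1))
    rw [map_sub, sub_eq_zero] at h1 ⊢
    rw [h1]
    simp only [Φ, LinearMap.coe_sum, Finset.sum_apply, LinearMap.smul_apply, LinearMap.proj_apply,
      map_sum, map_smul, hw]
  rw [hx']
  simp only [Φ, LinearMap.coe_sum, Finset.sum_apply, LinearMap.smul_apply, LinearMap.proj_apply]
  exact sum_mem fun a _ => smul_mem_smul (hs ▸ Ideal.subset_span a.2) trivial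

/-- Lifting along a map from a precomplete module which is surjective on every level. -/
theorem exists_eq_of_ker {P : Type*} [AddCommGroup P] [Module A P] [IsPrecomplete I P]
    (φ : P →ₗ[A] L) (hφ : ∀ m, Function.Surjective (π m ∘ₗ φ)) {n : ℕ} {x : L}
    (hx : π n x = 0) : ∃ a ∈ I ^ (n + 1) • (⊤ : Submodule A P), φ a = x := by
  obtain ⟨S, hS0, hS, hSd⟩ := exists_succ_seq
    (fun k (z : P) => π (n + k) (x - φ z) = 0)
    (fun k z z' => z' - z ∈ I ^ (n + k + 1) • (⊤ : Submodule A P))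
    0 (by simpa using hx) (fun k z hz => by
      obtain ⟨d, hd, e⟩ := exists_preimage_mem_smul (π (n + k + 1) ∘ₗ φ) (hφ _) _ _
        (h.mem_smul_of_ker (Nat.le_succ (n + k)) hz)
      refine ⟨z + d, ?_, by simpa using hd⟩
      simp only [LinearMap.comp_apply] at e
      rw [map_add, ← sub_sub, map_sub, ← add_assoc, e, sub_self])
  have hmono : ∀ {i j : ℕ}, i ≤ j → S j - S i ∈ I ^ (n + i + 1) • (⊤ : Submodule A P) := by
    intro i j hij
    induction hij with
    | refl => simp
    | @step j hij ih =>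
      have hij' : i ≤ j := hij
      rw [show S (j + 1) - S i = (S (j + 1) - S j) + (S j - S i) by abel]
      exact add_mem (pow_smul_top_le I P (by omega) (hSd j)) ih
  obtain ⟨a, ha⟩ := IsPrecomplete.prec ‹IsPrecomplete I P› (f := S) (by
    intro i j hij
    refine SModEq.symm (SModEq.sub_mem.2 ?_)
    exact pow_smul_top_le I P (by omega) (hmono hij))
  refine ⟨a, ?_, ?_⟩
  · have h1 := SModEq.sub_mem.1 (ha (n + 1))
    have h2 := hmono (Nat.zero_le (n + 1))
    rw [hS0, sub_zero] at h2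
    rw [show a = S (n + 1) - (S (n + 1) - a) by abel]
    exact sub_mem (pow_smul_top_le I P (by omega) h2) h1
  · rw [eq_comm, ← sub_eq_zero]
    refine h.inj _ fun k => ?_
    have h1 : π k (x - φ (S (k + 1))) = 0 :=
      h.ker_le_ker (show k ≤ n + (k + 1) by omega) (hS (k + 1))
    have h2 : φ (S (k + 1) - a) ∈ LinearMap.ker (π k) := by
      refine h.smul_le_ker le_rfl ?_
      have : φ (S (k + 1) - a) ∈ (I ^ (k + 1) • (⊤ : Submodule A P)).map φ :=
        mem_map_of_mem (SModEq.sub_mem.1 (ha (k + 1)))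
      rw [map_smul''] at this
      exact SetLike.le_def.1 (smul_mono_right _ le_top) this
    rw [LinearMap.mem_ker] at h2
    rw [show x - φ a = (x - φ (S (k + 1))) + φ (S (k + 1) - a) by rw [map_sub]; abel,
      map_add, h1, h2, add_zero]

theorem surjective_comp_of_surjective_zero {P : Type*} [AddCommGroup P] [Module A P]
    (φ : P →ₗ[A] L) (hφ : Function.Surjective (π 0 ∘ₗ φ)) (m : ℕ) :
    Function.Surjective (π m ∘ₗ φ) := by
  intro y
  obtain ⟨x, rfl⟩ := h.surjective_proj m y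
  obtain ⟨p, hp⟩ := hφ (π 0 x)
  have h1 : (⊤ : Submodule A (M m)) ≤ LinearMap.range (π m ∘ₗ φ) ⊔ I • ⊤ := by
    intro z _
    obtain ⟨l, rfl⟩ := h.surjective_proj m z
    obtain ⟨p, hp⟩ := hφ (π 0 l)
    rw [show π m l = π m (φ p) + π m (l - φ p) by rw [map_sub]; abel]
    refine Submodule.add_mem_sup ⟨p, rfl⟩ ?_
    have := h.mem_smul_of_ker (Nat.zero_le m) (x := l - φ p)
      (by rw [map_sub]; simp only [LinearMap.comp_apply] at hp; rw [hp, sub_self])
    simpa using this
  have h2 : ∀ k, (⊤ : Submodule A (M m)) ≤ LinearMap.range (π m ∘ₗ φ) ⊔ I ^ k • ⊤ := by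
    intro k
    induction k with
    | zero => simp
    | succ k ih =>
      refine ih.trans (sup_le le_sup_left ?_)
      refine (smul_mono_right _ h1).trans ?_
      rw [smul_sup, ← Submodule.smul_assoc, smul_eq_mul, ← pow_succ]
      exact sup_le_sup_right Submodule.smul_le_right _
  have := h2 (m + 1) (x := π m x) trivial
  rw [h.killed m, sup_bot_eq] at this
  exact this

theorem isPrecomplete (hker : ∀ n, LinearMap.ker (π n) = I ^ (n + 1) • (⊤ : Submodule A L)) :
    IsPrecomplete I L := by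
  refine ⟨fun x hx => ?_⟩
  obtain ⟨l, hl⟩ := h.lift (fun n => π n (x (n + 1))) (fun n => by
    rw [h.compat_apply, ← sub_eq_zero, ← map_sub, ← LinearMap.mem_ker]
    exact h.smul_le_ker le_rfl (SModEq.sub_mem.1 (SModEq.symm (hx (Nat.le_succ (n + 1))))))
  refine ⟨l, fun n => ?_⟩
  have h1 : x (n + 1) - l ∈ I ^ (n + 1) • (⊤ : Submodule A L) := by
    rw [← hker n, LinearMap.mem_ker, map_sub, hl, sub_self]
  exact (hx (Nat.le_succ n)).trans (SModEq.sub_mem.2 (pow_smul_top_le I L (Nat.le_succ n) h1))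

/-- Over a precomplete ring a system with finite bottom term has a finite limit. -/
theorem exists_surjective_of_finite [IsPrecomplete I A] (h0 : Module.Finite A (M 0)) :
    ∃ (r : ℕ) (φ : (Fin r → A) →ₗ[A] L), Function.Surjective φ ∧
      ∀ n, LinearMap.ker (π n) = I ^ (n + 1) • (⊤ : Submodule A L) := by
  obtain ⟨r, g, hg⟩ := Module.Finite.exists_fin' A (M 0)
  obtain ⟨φ, hφ⟩ := Module.projective_lifting_property (π 0) g (h.surjective_proj 0)
  have hφ' := h.surjective_comp_of_surjective_zero φ (by rw [hφ]; exact hg)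
  refine ⟨r, φ, fun x => ?_, fun n => le_antisymm (fun x hx => ?_) (h.smul_le_ker le_rfl)⟩
  · obtain ⟨p, hp⟩ := hφ' 0 (π 0 x)
    obtain ⟨a, -, ha⟩ := h.exists_eq_of_ker φ hφ' (n := 0) (x := x - φ p)
      (by rw [map_sub]; simp only [LinearMap.comp_apply] at hp; rw [hp, sub_self])
    exact ⟨a + p, by rw [map_add, ha]; abel⟩
  · obtain ⟨a, ha, rfl⟩ := h.exists_eq_of_ker φ hφ' hx
    have : φ a ∈ (I ^ (n + 1) • (⊤ : Submodule A (Fin r → A))).map φ := mem_map_of_mem ha
    rw [map_smul''] at this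
    exact SetLike.le_def.1 (smul_mono_right _ le_top) this

end LimSys

end Groth.Agent.Adic
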