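import Mathlib.AlgebraicGeometry.IdealSheaf.Functorial
import Mathlib.AlgebraicGeometry.Noetherian
import Mathlib.RingTheory.Finiteness.Ideal

/-!
A power of a finite type ideal sheaf lies in any ideal sheaf with smaller support.
-/

universe u

open CategoryTheory AlgebraicGeometry

namespace Groth.Agent.Adic.PowLe

variable {X : Scheme.{u}}

theorem le_of_cover {ι : Type*} (U : ι → X.affineOpens) (hU : ⨆ i, (U i).1 = ⊤)
    {I J : X.IdealSheafData} (h : ∀ i, I.ideal (U i) ≤ J.ideal (U i)) : I ≤ J := by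
  rw [← sup_eq_right]
  refine Scheme.IdealSheafData.ext_of_iSup_eq_top U hU fun i => ?_
  rw [Scheme.IdealSheafData.ideal_sup, Pi.sup_apply, sup_eq_right.2 (h i)]

theorem le_radical_of_support_le {I J : X.IdealSheafData}
    (h : (J.support : Set X) ⊆ I.support) (U : X.affineOpens) :
    I.ideal U ≤ (J.ideal U).radical := by
  have hle := Set.inter_subset_inter_left (U.1 : Set X) h
  rw [Scheme.IdealSheafData.coe_support_inter, Scheme.IdealSheafData.coe_support_inter] at hle
  rw [← U.2.fromSpec_image_zeroLocus, ← U.2.fromSpec_image_zeroLocus,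
    Set.image_subset_image_iff U.2.fromSpec.isOpenEmbedding.injective] at hle
  exact (PrimeSpectrum.zeroLocus_subset_zeroLocus_iff (J.ideal U) (I.ideal U)).1 hle

theorem exists_pow_le [CompactSpace X] (I J : X.IdealSheafData)
    (hI : ∀ U : X.affineOpens, (I.ideal U).FG) (h : (J.support : Set X) ⊆ I.support) :
    ∃ n : ℕ, ∀ m, n ≤ m → I ^ m ≤ J := by
  obtain ⟨t, ht⟩ := isCompact_univ.elim_finite_subcover
    (fun U : X.affineOpens => (U.1 : Set X)) (fun U => U.1.2) (by
      intro x _
      have hx : x ∈ (⊤ : X.Opens) := trivial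
      rw [← iSup_affineOpens_eq_top X, TopologicalSpace.Opens.mem_iSup] at hx
      obtain ⟨U, hU⟩ := hx
      exact Set.mem_iUnion.2 ⟨U, hU⟩)
  choose k hk using fun U : X.affineOpens =>
    Ideal.exists_pow_le_of_le_radical_of_fg (le_radical_of_support_le h U) (hI U)
  refine ⟨t.sup k, fun m hm => le_of_cover (fun U : t => U.1) ?_ fun U => ?_⟩
  · refine TopologicalSpace.Opens.ext (Set.eq_univ_of_univ_subset ?_)
    intro x hx
    have := ht hx
    simp only [Set.mem_iUnion] at this
    obtain ⟨U, hU, hxU⟩ := this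
    exact TopologicalSpace.Opens.mem_iSup.2 ⟨⟨U, hU⟩, hxU⟩
  · rw [Scheme.IdealSheafData.ideal_pow, Pi.pow_apply]
    exact (Ideal.pow_le_pow_right ((Finset.le_sup U.2).trans hm)).trans (hk U.1)

end Groth.Agent.Adic.PowLe
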