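import Groth.Prelude.Def_FSch5
import Groth.Agent.IdealSh.Comap
import Mathlib.AlgebraicGeometry.Noetherian
import Mathlib.AlgebraicGeometry.Morphisms.ClosedImmersion

/-!
The system induced on an open subset of a formal system.
-/

universe u

open CategoryTheory Limits AlgebraicGeometry

namespace Groth.Agent.Adic.RestrictOpen

theorem ker_eq_comap {P X Y Z : Scheme.{u}} {p : P ⟶ X} {q : P ⟶ Y} {f : X ⟶ Z} {g : Y ⟶ Z}
    [IsClosedImmersion g] (hc : IsPullback p q f g) : p.ker = g.ker.comap f := by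
  have hg : g.toImage ≫ g.ker.subschemeι = g := g.toImage_imageι
  have hc' : IsPullback p (q ≫ g.toImage) f g.ker.subschemeι :=
    hc.of_iso (Iso.refl P) (Iso.refl X) (asIso g.toImage) (Iso.refl Z) (by simp) (by simp) (by simp)
      (by simp)
  rw [← hc'.isoPullback_hom_fst, Scheme.Hom.ker_comp_of_isIso]
  rfl

theorem isPullback_resLE {X Y : Scheme.{u}} (f : X ⟶ Y) (V : Y.Opens) (W : X.Opens)
    (h : f ⁻¹ᵁ V = W) : IsPullback (f.resLE V W h.ge) W.ι V.ι f := by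
  subst h
  rw [Scheme.Hom.resLE_eq_morphismRestrict]
  exact isPullback_morphismRestrict f V

variable (𝔛 : FSch.Sys.{u}) (h : 𝔛.IsFormal) (U : (𝔛.X 0).Opens)

theorem lvU_toX (n : ℕ) : 𝔛.toX n ⁻¹ᵁ 𝔛.lvU h n U = 𝔛.lvU h 0 U := by
  induction n with
  | zero => rfl
  | succ n ih =>
    show (𝔛.toX n ≫ 𝔛.ι n) ⁻¹ᵁ _ = _
    rw [Scheme.Hom.comp_preimage, 𝔛.lvU_succ h n U, ih]

theorem toX_eq (n : ℕ) :
    (𝔛.restrictOpen h U).toX n =
      (𝔛.toX n).resLE (𝔛.lvU h n U) (𝔛.lvU h 0 U) (lvU_toX 𝔛 h U n).ge := by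
  refine (cancel_mono (𝔛.lvU h n U).ι).1 ?_
  refine Eq.trans ?_ (Scheme.Hom.resLE_comp_ι _ _).symm
  induction n with
  | zero =>
    show 𝟙 ((𝔛.lvU h 0 U : Scheme)) ≫ (𝔛.lvU h 0 U).ι = (𝔛.lvU h 0 U).ι ≫ 𝟙 (𝔛.X 0)
    rw [Category.id_comp, Category.comp_id]
  | succ n ih =>
    show ((𝔛.restrictOpen h U).toX n ≫
      (𝔛.ι n).resLE (𝔛.lvU h (n + 1) U) (𝔛.lvU h n U) (𝔛.lvU_le h n U)) ≫
      (𝔛.lvU h (n + 1) U).ι = (𝔛.lvU h 0 U).ι ≫ 𝔛.toX n ≫ 𝔛.ι n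
    refine (Category.assoc _ _ _).trans ?_
    refine (congrArg ((𝔛.restrictOpen h U).toX n ≫ ·) (Scheme.Hom.resLE_comp_ι _ _)).trans ?_
    refine (Category.assoc _ _ _).symm.trans ?_
    exact (congrArg (· ≫ 𝔛.ι n) ih).trans (Category.assoc _ _ _)

theorem isFormal : (𝔛.restrictOpen h U).IsFormal := by
  intro n
  have hc := isPullback_resLE (𝔛.ι n) (𝔛.lvU h (n + 1) U) (𝔛.lvU h n U) (𝔛.lvU_succ h n U)
  have h1 : IsClosedImmersion ((𝔛.ι n).resLE (𝔛.lvU h (n + 1) U) (𝔛.lvU h n U)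
      (𝔛.lvU_le h n U)) := MorphismProperty.of_isPullback hc.flip (h n).1
  have h2 : Surjective ((𝔛.ι n).resLE (𝔛.lvU h (n + 1) U) (𝔛.lvU h n U)
      (𝔛.lvU_le h n U)) := MorphismProperty.of_isPullback hc.flip ⟨(h n).2⟩
  exact ⟨h1, h2.1⟩

theorem isAdic (hA : 𝔛.IsAdic) : (𝔛.restrictOpen h U).IsAdic := by
  intro n
  have := (h n).1
  have := FSch.Sys.toX_isClosedImmersion 𝔛 h (n + 1)
  have h1 := ker_eq_comap
    (isPullback_resLE (𝔛.ι n) (𝔛.lvU h (n + 1) U) (𝔛.lvU h n U) (𝔛.lvU_succ h n U))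
  have h2 := ker_eq_comap
    (isPullback_resLE (𝔛.toX (n + 1)) (𝔛.lvU h (n + 1) U) (𝔛.lvU h 0 U) (lvU_toX 𝔛 h U (n + 1)))
  show ((𝔛.ι n).resLE _ _ _).ker = _
  refine h1.trans ?_
  refine Eq.trans ?_ (congrArg (fun k => Scheme.Hom.ker k ^ (n + 1)) (toX_eq 𝔛 h U (n + 1)).symm)
  refine Eq.trans ?_ (congrArg (· ^ (n + 1)) h2.symm)
  rw [hA n, IdealSh.Comap.comap_pow]

theorem isLocNoethFormal (hN : 𝔛.IsLocNoethFormal) : (𝔛.restrictOpen h U).IsLocNoethFormal :=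
  ⟨isFormal 𝔛 h U, isAdic 𝔛 h U hN.2.1, fun n => by
    have := hN.2.2 n
    have hn : IsLocallyNoetherian (𝔛.lvU h n U : Scheme) :=
      isLocallyNoetherian_of_isOpenImmersion (𝔛.lvU h n U).ι
    exact hn⟩

theorem compactSpace (hN : 𝔛.IsLocNoethFormal) [CompactSpace (𝔛.X 0)] :
    CompactSpace ((𝔛.restrictOpen h U).X 0) := by
  have := hN.2.2 0
  have : IsNoetherian (𝔛.X 0) := {}
  exact isCompact_iff_compactSpace.1 (TopologicalSpace.NoetherianSpace.isCompact _)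

end Groth.Agent.Adic.RestrictOpen
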