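import Groth.Agent.Adic.LimitSys
import Mathlib.RingTheory.Finiteness.Ideal
import Mathlib.RingTheory.Ideal.Maps

/-!
Inverse limits of thickening systems of rings.
-/

namespace Groth.Agent.Adic

universe u v

variable {B : ℕ → Type u} [∀ n, CommRing (B n)]

/-- An inverse system of rings `B (n+1) → B n` which are thickenings, with a limit. -/
structure RingSys (u : ∀ n, B (n + 1) →+* B n) (v : ∀ n, B n →+* B 0) (A : Type v) [CommRing A]
    (p : ∀ n, A →+* B n) : Prop where
  surj : ∀ n, Function.Surjective (u n)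
  v_zero : v 0 = RingHom.id (B 0)
  v_succ : ∀ n, (v n).comp (u n) = v (n + 1)
  ker_eq : ∀ n, RingHom.ker (u n) = RingHom.ker (v (n + 1)) ^ (n + 1)
  fg : (RingHom.ker (v 1)).FG
  compat : ∀ n, (u n).comp (p (n + 1)) = p n
  inj : ∀ x : A, (∀ n, p n x = 0) → x = 0
  lift : ∀ y : (∀ n, B n), (∀ n, u n (y (n + 1)) = y n) → ∃ x : A, ∀ n, p n x = y n

namespace RingSys

variable {u : ∀ n, B (n + 1) →+* B n} {v : ∀ n, B n →+* B 0} {A : Type v} [CommRing A]
  {p : ∀ n, A →+* B n} (h : RingSys u v A p)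
include h

theorem vp (n : ℕ) : (v n).comp (p n) = p 0 := by
  induction n with
  | zero => rw [h.v_zero, RingHom.id_comp]
  | succ n ih => rw [← h.v_succ, RingHom.comp_assoc, h.compat, ih]

theorem map_kerV (n : ℕ) : (RingHom.ker (v (n + 1))).map (u n) = RingHom.ker (v n) := by
  rw [← h.v_succ n, ← RingHom.comap_ker, Ideal.map_comap_of_surjective _ (h.surj n)]

theorem kerV_pow (n : ℕ) : RingHom.ker (v n) ^ (n + 1) = ⊥ := by
  rw [← h.map_kerV, ← Ideal.map_pow, ← h.ker_eq n, Ideal.map_eq_bot_iff_le_ker]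

omit h in
theorem exists_prefix (hu : ∀ n, Function.Surjective (u n)) :
    ∀ (n : ℕ) (y : B n), ∃ s : ∀ m, B m, s n = y ∧ ∀ m < n, u m (s (m + 1)) = s m
  | 0, y => ⟨Function.update (fun m => (0 : B m)) 0 y, by simp, by simp⟩
  | n + 1, y => by
    obtain ⟨s, hsn, hs⟩ := exists_prefix hu n (u n y)
    refine ⟨Function.update s (n + 1) y, by simp, fun m hm => ?_⟩
    rw [Function.update_of_ne (show m ≠ n + 1 by omega)]
    rcases Nat.lt_succ_iff_lt_or_eq.1 hm with hm' | rfl
    · rw [Function.update_of_ne (show m + 1 ≠ n + 1 by omega)]; exact hs m hm'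
    · simp [hsn]

theorem surjective_proj (n : ℕ) : Function.Surjective (p n) := by
  intro y
  obtain ⟨s, hsn, hs⟩ := exists_prefix h.surj n y
  choose g hg using fun n => h.surj n
  let t : ∀ m, B m := fun m => Nat.rec (motive := fun m => B m) (s 0)
    (fun k x => if k + 1 ≤ n then s (k + 1) else g k x) m
  have ht : ∀ m ≤ n, t m = s m := by
    intro m hm
    cases m with
    | zero => rfl
    | succ k => exact if_pos hm
  obtain ⟨x, hx⟩ := h.lift t (fun m => by
    by_cases hm : m + 1 ≤ n
    · rw [ht m (by omega), ht (m + 1) hm]; exact hs m hm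
    · show u m (if m + 1 ≤ n then s (m + 1) else g m (t m)) = t m
      rw [if_neg hm, hg])
  exact ⟨x, by rw [hx, ht n le_rfl, hsn]⟩

theorem kerV_eq (n : ℕ) : RingHom.ker (v n) = (RingHom.ker (p 0)).map (p n) := by
  rw [← h.vp n, ← RingHom.comap_ker, Ideal.map_comap_of_surjective _ (h.surjective_proj n)]

theorem exists_fg_ideal : ∃ I : Ideal A, I.FG ∧ I ≤ RingHom.ker (p 0) ∧
    ∀ n, I.map (p n) = RingHom.ker (v n) := by
  classical
  obtain ⟨s, hs⟩ := h.fg
  choose a ha using fun x : B 1 => h.surjective_proj 1 x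
  refine ⟨Ideal.span ↑(s.image a), ⟨_, rfl⟩, ?_, ?_⟩
  · rw [Ideal.span_le]
    intro z hz
    simp only [Finset.coe_image, Set.mem_image] at hz
    obtain ⟨y, hy, rfl⟩ := hz
    rw [SetLike.mem_coe, RingHom.mem_ker, ← h.vp 1, RingHom.comp_apply, ha, ← RingHom.mem_ker, ← hs]
    exact Ideal.subset_span hy
  set I := Ideal.span (↑(s.image a) : Set A) with hI
  set I₀ := RingHom.ker (p 0) with hI0
  have hle : I ≤ I₀ := by
    rw [Ideal.span_le]
    intro z hz
    simp only [Finset.coe_image, Set.mem_image] at hz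
    obtain ⟨y, hy, rfl⟩ := hz
    rw [SetLike.mem_coe, RingHom.mem_ker, ← h.vp 1, RingHom.comp_apply, ha, ← RingHom.mem_ker, ← hs]
    exact Ideal.subset_span hy
  have h1 : I.map (p 1) = RingHom.ker (v 1) := by
    rw [hI, Ideal.map_span, Finset.coe_image, Set.image_image, ← hs]
    simp [ha]
  -- `p n` maps `ker (p 1)` into `(I₀.map (p n)) ^ 2`
  have h2 : ∀ n, 1 ≤ n → ∀ x ∈ RingHom.ker (p 1), p n x ∈ (I₀.map (p n)) ^ 2 := by
    intro n hn
    induction n, hn using Nat.le_induction with
    | base => intro x hx; rw [RingHom.mem_ker] at hx; rw [hx]; exact zero_mem _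
    | succ n hn ih =>
      intro x hx
      have h3 : u n (p (n + 1) x) ∈ ((I₀.map (p (n + 1))) ^ 2).map (u n) := by
        rw [Ideal.map_pow, Ideal.map_map, h.compat, ← RingHom.comp_apply (u n), h.compat]
        exact ih x hx
      rw [Ideal.mem_map_iff_of_surjective _ (h.surj n)] at h3
      obtain ⟨z, hz, e⟩ := h3
      rw [show p (n + 1) x = z + (p (n + 1) x - z) by ring]
      refine add_mem hz ?_
      have h4 : p (n + 1) x - z ∈ RingHom.ker (u n) := by
        rw [RingHom.mem_ker, map_sub, e, sub_self]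
      rw [h.ker_eq, h.kerV_eq] at h4
      exact Ideal.pow_le_pow_right (by omega) h4
  intro n
  rcases Nat.eq_zero_or_pos n with rfl | hn
  · rw [h.v_zero, Ideal.map_eq_bot_iff_le_ker (p 0) |>.2 hle,
      (RingHom.injective_iff_ker_eq_bot _).1 (fun _ _ e => e)]
  set J := I.map (p n) with hJ
  set K := RingHom.ker (v n) with hK
  have hJK : J ≤ K := by rw [hK, h.kerV_eq]; exact Ideal.map_mono hle
  have hKJ : K ≤ J ⊔ K ^ 2 := by
    conv_lhs => rw [hK, h.kerV_eq]
    rw [Ideal.map_le_iff_le_comap]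
    intro x hx
    have : p 1 x ∈ I.map (p 1) := by
      rw [h1, h.kerV_eq]; exact Ideal.mem_map_of_mem _ hx
    rw [Ideal.mem_map_iff_of_surjective _ (h.surjective_proj 1)] at this
    obtain ⟨z, hz, e⟩ := this
    rw [Ideal.mem_comap, show p n x = p n z + p n (x - z) by rw [map_sub]; ring]
    refine Submodule.add_mem_sup (Ideal.mem_map_of_mem _ hz) ?_
    rw [hK, h.kerV_eq]
    exact h2 n hn _ (by rw [RingHom.mem_ker, map_sub, e, sub_self])
  have hk : ∀ k, K ≤ J ⊔ K ^ (k + 1) := by
    intro k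
    induction k with
    | zero => simp
    | succ k ih =>
      have h3 : K ^ (k + 1) ≤ J ⊔ K ^ (k + 2) := by
        calc K ^ (k + 1) = K ^ k * K := pow_succ K k
          _ ≤ K ^ k * (J ⊔ K ^ 2) := Ideal.mul_mono le_rfl hKJ
          _ ≤ J ⊔ K ^ (k + 2) := by
            rw [Ideal.mul_sup, ← pow_add]
            exact sup_le_sup_right Ideal.mul_le_right _
      exact ih.trans (sup_le le_sup_left h3)
  refine le_antisymm hJK ?_
  have := hk n
  rwa [hK, h.kerV_pow, sup_bot_eq] at this

theorem main : IsAdicComplete (RingHom.ker (p 0)) A ∧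
    (∀ n, Function.Surjective (p n) ∧ RingHom.ker (p n) = RingHom.ker (p 0) ^ (n + 1)) ∧
    (RingHom.ker (p 0)).FG := by
  obtain ⟨I, hfg, -, hI⟩ := h.exists_fg_ideal
  letI : ∀ n, Module A (B n) := fun n => Module.compHom (B n) (p n)
  let π : ∀ n, A →ₗ[A] B n := fun n =>
    { toFun := p n, map_add' := map_add _, map_smul' := fun a b => map_mul _ a b }
  let f : ∀ n, B (n + 1) →ₗ[A] B n := fun n =>
    { toFun := u n
      map_add' := map_add _
      map_smul' := fun a b => by
        show u n (p (n + 1) a * b) = p n a * u n b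
        rw [map_mul, ← RingHom.comp_apply (u n), h.compat] }
  have hsmul : ∀ (n : ℕ) (J : Ideal A) (x : B n),
      x ∈ J • (⊤ : Submodule A (B n)) ↔ x ∈ J.map (p n) := by
    intro n J x
    constructor
    · intro hx
      refine Submodule.smul_induction_on hx (fun a ha b _ => ?_) (fun a b ha hb => add_mem ha hb)
      exact Ideal.mul_mem_right b _ (Ideal.mem_map_of_mem _ ha)
    · intro hx
      rw [Ideal.mem_map_iff_of_surjective _ (h.surjective_proj n)] at hx
      obtain ⟨a, ha, rfl⟩ := hx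
      rw [show p n a = a • (1 : B n) from (mul_one _).symm]
      exact Submodule.smul_mem_smul ha trivial
  have hL : LimSys A I B f A π :=
    { surj := h.surj
      ker_eq := fun n => by
        ext x
        rw [hsmul, Ideal.map_pow, hI, ← h.ker_eq]
        rfl
      compat := fun n => LinearMap.ext fun x => RingHom.congr_fun (h.compat n) x
      inj := h.inj
      lift := h.lift }
  have hk : ∀ n, RingHom.ker (p n) = I ^ (n + 1) := by
    intro n
    ext x
    have := SetLike.ext_iff.1 (hL.ker_proj_of_fg hfg n) x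
    rw [LinearMap.mem_ker, smul_eq_mul, Ideal.mul_top] at this
    exact this
  have hI0 : RingHom.ker (p 0) = I := by rw [hk 0, pow_one]
  refine ⟨hI0 ▸ ?_, fun n => ⟨h.surjective_proj n, by rw [hI0, hk n]⟩, hI0 ▸ hfg⟩
  exact { toIsHausdorff := hL.isHausdorff,
          toIsPrecomplete := hL.isPrecomplete (hL.ker_proj_of_fg hfg) }

end RingSys

end Groth.Agent.Adic
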