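import Groth.Agent.Adic.IdealSpec
import Mathlib.RingTheory.Spectrum.Prime.Topology
import Mathlib.AlgebraicGeometry.Morphisms.Finite

/-!
The system `FSch.spf A I`.
-/

universe u

open CategoryTheory AlgebraicGeometry

namespace Groth.Agent.Adic.Spf

variable (A : Type u) [CommRing A] (I : Ideal A)

/-- `A ⧸ I^(n+1) → A ⧸ I^(m+1)`. -/
abbrev tr {m n : ℕ} (h : m ≤ n) : A ⧸ I ^ (n + 1) →+* A ⧸ I ^ (m + 1) :=
  Ideal.Quotient.factor (Ideal.pow_le_pow_right (Nat.succ_le_succ h))

theorem ker_eq {A B : Type u} [CommRing A] [CommRing B] (φ : A →+* B) :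
    (Spec.map (CommRingCat.ofHom φ)).ker = FSch.idealSpec A (RingHom.ker φ) := by
  apply Scheme.IdealSheafData.ext_of_isAffine
  rw [IdealSpec.ker_Spec_map_eq, IdealSpec.ideal_idealSpec_top]

theorem toX_eq (n : ℕ) :
    (FSch.spf A I).toX n = Spec.map (CommRingCat.ofHom (tr A I (Nat.zero_le n))) := by
  induction n with
  | zero =>
    have e : tr A I (Nat.zero_le 0) = RingHom.id _ := Ideal.Quotient.ringHom_ext rfl
    show 𝟙 (Spec (CommRingCat.of (A ⧸ I ^ (0 + 1)))) = _
    rw [e]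
    exact (Spec.map_id _).symm
  | succ n ih =>
    show (FSch.spf A I).toX n ≫ CohB1.specQuotTrans I n = _
    refine (congrArg (· ≫ CohB1.specQuotTrans I n) ih).trans ?_
    refine (Spec.map_comp (CommRingCat.ofHom _) (CommRingCat.ofHom _)).symm.trans ?_
    exact congrArg (fun φ => Spec.map (CommRingCat.ofHom φ)) (Ideal.Quotient.ringHom_ext rfl)

theorem ker_tr {m n : ℕ} (h : m ≤ n) :
    RingHom.ker (tr A I h) = (I ^ (m + 1)).map (Ideal.Quotient.mk (I ^ (n + 1))) :=
  Ideal.Quotient.factor_ker _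

theorem isNilpotent_of_mem_ker {m n : ℕ} (h : m ≤ n) (x : A ⧸ I ^ (n + 1))
    (hx : x ∈ RingHom.ker (tr A I h)) : IsNilpotent x := by
  refine ⟨n + 1, ?_⟩
  have := Ideal.pow_mem_pow hx (n + 1)
  rwa [ker_tr, ← Ideal.map_pow, Ideal.map_eq_bot_iff_le_ker _ |>.2 (by
    rw [Ideal.mk_ker, ← pow_mul]
    exact Ideal.pow_le_pow_right (Nat.le_mul_of_pos_left _ (Nat.succ_pos m)))] at this

theorem isFormal : (FSch.spf A I).IsFormal := fun n =>
  ⟨IsClosedImmersion.spec_of_surjective _ (Ideal.Quotient.factor_surjective (Ideal.pow_le_pow_right (Nat.le_succ (n + 1)))), by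
    have h : Function.Surjective (PrimeSpectrum.comap (tr A I (Nat.le_succ n))) := by
      rw [← Set.range_eq_univ,
        range_comap_of_surjective _ _ (Ideal.Quotient.factor_surjective (Ideal.pow_le_pow_right (Nat.le_succ (n + 1)))),
        PrimeSpectrum.zeroLocus_eq_univ_iff]
      exact fun x hx => mem_nilradical.2 (isNilpotent_of_mem_ker A I _ x hx)
    exact h⟩

theorem isAdic : (FSch.spf A I).IsAdic := fun n => by
  show (Spec.map (CommRingCat.ofHom (tr A I (Nat.le_succ n)))).ker = _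
  refine (ker_eq (tr A I (Nat.le_succ n))).trans ?_
  refine Eq.trans ?_ (congrArg (fun f => Scheme.Hom.ker f ^ (n + 1)) (toX_eq A I (n + 1)).symm)
  refine Eq.trans ?_ (congrArg (· ^ (n + 1)) (ker_eq (tr A I (Nat.zero_le (n + 1)))).symm)
  rw [← IdealSpec.idealSpec_pow, ker_tr, ker_tr, zero_add, pow_one, Ideal.map_pow]

theorem isLocNoethFormal [IsNoetherianRing A] : (FSch.spf A I).IsLocNoethFormal := by
  refine ⟨isFormal A I, isAdic A I, fun n => ?_⟩
  have : IsNoetherianRing (CommRingCat.of (A ⧸ I ^ (n + 1))) :=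
    (inferInstance : IsNoetherianRing (A ⧸ I ^ (n + 1)))
  exact (inferInstance : IsLocallyNoetherian (Spec (CommRingCat.of (A ⧸ I ^ (n + 1)))))

end Groth.Agent.Adic.Spf
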