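import Groth.Agent.Adic.Spf
import Groth.Agent.Adic.AdicHom
import Mathlib.RingTheory.AdicCompletion.RingHom
import Mathlib.RingTheory.Nakayama

/-!
Morphisms of formal spectra: bijectivity of `spfMap`, adicity criterion.
-/

universe u

open CategoryTheory Limits AlgebraicGeometry

namespace Groth.Agent.Adic.SpfMap

/-- A commutative square of closed immersions with matching ideal sheaves is cartesian. -/
theorem isPullback_of_ker {P X Y Z : Scheme.{u}} {p : P ⟶ X} {q : P ⟶ Y} {f : X ⟶ Z} {g : Y ⟶ Z}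
    [IsClosedImmersion p] [IsClosedImmersion g] (w : p ≫ f = q ≫ g)
    (h : p.ker = g.ker.comap f) : IsPullback p q f g := by
  have : IsClosedImmersion (pullback.fst f g) :=
    MorphismProperty.pullback_fst _ _ ‹IsClosedImmersion g›
  let t := pullback.lift p q w
  have ht : t ≫ pullback.fst f g = p := pullback.lift_fst _ _ _
  have hk : (pullback.fst f g).ker ≤ p.ker := by
    rw [RestrictOpen.ker_eq_comap (IsPullback.of_hasPullback f g), h]
  have hk' : p.ker ≤ (pullback.fst f g).ker := by
    rw [RestrictOpen.ker_eq_comap (IsPullback.of_hasPullback f g), h]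
  let s := IsClosedImmersion.lift p (pullback.fst f g) hk'
  have hs : s ≫ p = pullback.fst f g := IsClosedImmersion.lift_fac _ _ _
  have : IsIso t := ⟨s, (cancel_mono p).1 (by rw [Category.assoc, hs, ht, Category.id_comp]),
    (cancel_mono (pullback.fst f g)).1 (by rw [Category.assoc, ht, hs, Category.id_comp])⟩
  exact IsPullback.of_iso_pullback ⟨w⟩ (asIso t) (pullback.lift_fst _ _ _) (pullback.lift_snd _ _ _)

variable {A B : Type u} [CommRing A] [CommRing B] (I : Ideal A) (K : Ideal B)

theorem bijective [IsAdicComplete I A] :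
    Function.Bijective (fun φ : {φ : B →+* A // K ≤ I.comap φ} ↦ FSch.spfMap I K φ.1 φ.2) := by
  have ha : StrictMono (fun n : ℕ => n + 1) := fun _ _ h => by simpa using h
  constructor
  · intro φ φ' h
    refine Subtype.ext (RingHom.ext fun b => ?_)
    refine congrFun (IsHausdorff.StrictMono.funext' I ha fun n (m : B) => ?_) b
    have h1 := congrFun (congrArg FSch.Hom.app h) n
    have h2 := congrArg CommRingCat.Hom.hom (Spec.map_injective h1)
    exact RingHom.congr_fun h2 (Ideal.Quotient.mk _ m)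
  · intro F
    let ψ : ∀ n : ℕ, B ⧸ K ^ (n + 1) →+* A ⧸ I ^ (n + 1) := fun n =>
      (Spec.preimage ((F : FSch.Hom _ _).app n)).hom
    have hψ : ∀ n, Spec.map (CommRingCat.ofHom (ψ n)) = (F : FSch.Hom _ _).app n := fun n =>
      Spec.map_preimage _
    have hcomp : ∀ n, (Spf.tr A I (Nat.le_succ n)).comp (ψ (n + 1)) =
        (ψ n).comp (Spf.tr B K (Nat.le_succ n)) := by
      intro n
      have h := (F : FSch.Hom _ _).comm n
      rw [← hψ n, ← hψ (n + 1)] at h
      change Spec.map _ ≫ Spec.map _ = Spec.map _ ≫ Spec.map _ at h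
      have h2 := congrArg CommRingCat.Hom.hom (Spec.map_injective
        ((Spec.map_comp _ _).trans (h.symm.trans (Spec.map_comp _ _).symm)))
      exact h2
    let f : ∀ n : ℕ, B →+* A ⧸ I ^ (n + 1) := fun n => (ψ n).comp (Ideal.Quotient.mk _)
    have hf : ∀ {m : ℕ}, (Ideal.Quotient.factorPow I (ha.monotone m.le_succ)).comp (f (m + 1)) = f m := by
      intro m
      exact congrArg (fun g => g.comp (Ideal.Quotient.mk (K ^ (m + 1 + 1)))) (hcomp m)
    let φ : B →+* A := IsAdicComplete.StrictMono.liftRingHom I ha f hf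
    have hφ : ∀ n x, Ideal.Quotient.mk (I ^ (n + 1)) (φ x) = f n x := fun n x =>
      IsAdicComplete.StrictMono.mk_liftRingHom I ha f hf x
    have hK : K ≤ I.comap φ := by
      intro x hx
      have h1 : Ideal.Quotient.mk (K ^ (0 + 1)) x = 0 :=
        Ideal.Quotient.eq_zero_iff_mem.2 (by simpa using hx)
      have h2 := hφ 0 x
      rw [show f 0 x = ψ 0 (Ideal.Quotient.mk (K ^ (0 + 1)) x) from rfl, h1, map_zero,
        Ideal.Quotient.eq_zero_iff_mem] at h2
      simpa using h2
    refine ⟨⟨φ, hK⟩, FSch.Hom.ext (funext fun n => ?_)⟩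
    show Spec.map (CommRingCat.ofHom (FSch.quotPowMap I K φ hK n)) = _
    rw [← hψ n]
    exact congrArg (fun g => Spec.map (CommRingCat.ofHom g))
      (Ideal.Quotient.ringHom_ext (RingHom.ext fun x => hφ n x))

theorem isAdicHom_iff [IsNoetherianRing A] [IsAdicComplete I A] (φ : B →+* A)
    (h : K ≤ I.comap φ) : FSch.IsAdicHom (FSch.spfMap I K φ h) ↔ K.map φ = I := by
  have key : ∀ n, (((FSch.spf B K).ι n).ker).comap ((FSch.spfMap I K φ h : FSch.Hom _ _).app (n + 1)) =
      FSch.idealSpec _ (((K ^ (n + 1)).map φ).map (Ideal.Quotient.mk (I ^ (n + 1 + 1)))) := by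
    intro n
    refine (congrArg (fun J => Scheme.IdealSheafData.comap J _)
      (Spf.ker_eq (Spf.tr B K (Nat.le_succ n)))).trans ?_
    refine (IdealSpec.comap_idealSpec (FSch.quotPowMap I K φ h (n + 1)) _).trans ?_
    refine congrArg (FSch.idealSpec _) ?_
    rw [Spf.ker_tr, Ideal.map_map, Ideal.map_map]
    rfl
  have hker : ∀ n, ((FSch.spf A I).ι n).ker =
      FSch.idealSpec _ ((I ^ (n + 1)).map (Ideal.Quotient.mk (I ^ (n + 1 + 1)))) := fun n =>
    (Spf.ker_eq (Spf.tr A I (Nat.le_succ n))).trans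
      (congrArg (FSch.idealSpec (A ⧸ I ^ (n + 1 + 1))) (Spf.ker_tr A I (Nat.le_succ n)))
  constructor
  · intro hA
    have := (Spf.isFormal B K 0).1
    have h1 := RestrictOpen.ker_eq_comap (hA 0)
    have h2 : ((I ^ (0 + 1)).map (Ideal.Quotient.mk (I ^ (0 + 1 + 1)))) =
        (((K ^ (0 + 1)).map φ).map (Ideal.Quotient.mk (I ^ (0 + 1 + 1)))) := by
      have h1' := (hker 0).symm.trans (h1.trans (key 0))
      exact le_antisymm ((IdealSpec.idealSpec_le_iff (A ⧸ I ^ (0 + 1 + 1)) _ _).1 h1'.le)
        ((IdealSpec.idealSpec_le_iff (A ⧸ I ^ (0 + 1 + 1)) _ _).1 h1'.ge)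
    have h3 := congrArg (Ideal.comap (Ideal.Quotient.mk (I ^ (0 + 1 + 1)))) h2
    rw [Ideal.comap_map_of_surjective' _ Ideal.Quotient.mk_surjective,
      Ideal.comap_map_of_surjective' _ Ideal.Quotient.mk_surjective, Ideal.mk_ker,
      sup_eq_left.2 (Ideal.pow_le_pow_right (Nat.le_succ (0 + 1)))] at h3
    simp only [zero_add, pow_one] at h3
    refine le_antisymm (Ideal.map_le_iff_le_comap.2 h) ?_
    refine Submodule.le_of_le_smul_of_le_jacobson_bot (IsNoetherian.noetherian I)
      (IsAdicComplete.le_jacobson_bot I) ?_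
    refine h3.le.trans (sup_le_sup_left ?_ _)
    rw [smul_eq_mul, pow_two]
  · intro hK n
    have := (Spf.isFormal A I n).1
    have := (Spf.isFormal B K n).1
    refine isPullback_of_ker ((FSch.spfMap I K φ h : FSch.Hom _ _).comm n).symm ?_
    rw [key, hker, Ideal.map_pow φ, hK]

end Groth.Agent.Adic.SpfMap
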