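import Groth.Agent.Adic.StalkRing
import Groth.Agent.Adic.ComplFlat
import Groth.Agent.FDesc.Algebra
import Groth.Agent.RegLoc.AdicNoeth
import Mathlib.RingTheory.Flat.EquationalCriterion
import Mathlib.RingTheory.Flat.FaithfullyFlat.Algebra
import Mathlib.RingTheory.AdicCompletion.AsTensorProduct

/-!
`A{S⁻¹}` is faithfully flat over the stalk ring `A_{S}`.
-/

universe u

namespace Groth.Agent.Adic.StalkFlat

open StalkRing

variable (A : Type u) [CommRing A] [IsNoetherianRing A] (J : Ideal A) (𝔭 : Ideal A) [h𝔭 : 𝔭.IsPrime]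

theorem flat_cAwayToAtPrime (f : A) (hf : f ∉ 𝔭) : (FSch.cAwayToAtPrime A J 𝔭 f hf).Flat :=
  ComplFlat.complMap_flat J (Submonoid.powers f) 𝔭.primeCompl _
    (RingHom.ext fun a => IsLocalization.Away.lift_eq (S := Localization.Away f) f
      (g := algebraMap A (Localization.AtPrime 𝔭))
      (IsLocalization.map_units (Localization.AtPrime 𝔭) ⟨f, show f ∈ 𝔭.primeCompl from hf⟩) a) _

omit [IsNoetherianRing A] in
theorem exists_common {ι : Type} (s : Finset ι) (x : ι → FSch.stalkSubring A J 𝔭) :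
    ∃ (f : A) (hf : f ∉ 𝔭), ∀ i ∈ s,
      (x i : FSch.cAtPrime A J 𝔭) ∈ (FSch.cAwayToAtPrime A J 𝔭 f hf).range := by
  classical
  induction s using Finset.induction_on with
  | empty => exact ⟨1, fun h => h𝔭.ne_top ((Ideal.eq_top_iff_one _).2 h), fun i hi => by simp at hi⟩
  | insert j s _ ih =>
    obtain ⟨f, hf, hfs⟩ := ih
    obtain ⟨g, hg, y, hy⟩ := (mem_iff A J 𝔭 _).1 (x j).2
    have hfg : f * g ∉ 𝔭 := fun h => (h𝔭.mem_or_mem h).elim hf hg
    have hgf : g * f ∉ 𝔭 := fun h => (h𝔭.mem_or_mem h).elim hg hf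
    have key : ∀ (k : A) (hk : k ∉ 𝔭), g * f = k →
        (x j : FSch.cAtPrime A J 𝔭) ∈ (FSch.cAwayToAtPrime A J 𝔭 k hk).range := by
      rintro k hk rfl
      exact ⟨_, (cAway_trans A J 𝔭 g f hg hk y).trans hy⟩
    refine ⟨f * g, hfg, fun i hi => ?_⟩
    rcases Finset.mem_insert.1 hi with rfl | hi
    · exact key _ hfg (mul_comm _ _)
    · obtain ⟨z, hz⟩ := hfs i hi
      exact ⟨_, (cAway_trans A J 𝔭 f g hf hfg z).trans hz⟩

theorem flat : Module.Flat (FSch.stalkSubring A J 𝔭) (FSch.cAtPrime A J 𝔭) := by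
  refine Module.Flat.iff_forall_isTrivialRelation.2 fun {l} {r} {x} h => ?_
  obtain ⟨f, hf, hr⟩ := exists_common A J 𝔭 Finset.univ r
  choose s hs using fun i => hr i (Finset.mem_univ i)
  let _ := (FSch.cAwayToAtPrime A J 𝔭 f hf).toAlgebra
  have : Module.Flat (FSch.cAway A J f) (FSch.cAtPrime A J 𝔭) := flat_cAwayToAtPrime A J 𝔭 f hf
  have h' : ∑ i, s i • x i = 0 := by
    rw [← h]
    refine Finset.sum_congr rfl fun i _ => ?_
    show FSch.cAwayToAtPrime A J 𝔭 f hf (s i) * x i = (r i : FSch.cAtPrime A J 𝔭) * x i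
    rw [hs]
  obtain ⟨k, a, y, hy, ha⟩ := Module.Flat.isTrivialRelation_of_sum_smul_eq_zero h'
  refine ⟨k, fun i j => ⟨FSch.cAwayToAtPrime A J 𝔭 f hf (a i j),
    (mem_iff A J 𝔭 _).2 ⟨f, hf, _, rfl⟩⟩, y, fun i => hy i, fun j => ?_⟩
  refine Subtype.ext ?_
  have := congrArg (FSch.cAwayToAtPrime A J 𝔭 f hf) (ha j)
  rw [map_sum, map_zero] at this
  simp only [AddSubmonoidClass.coe_finsetSum, MulMemClass.coe_mul, ZeroMemClass.coe_zero]
  refine Eq.trans ?_ this
  exact Finset.sum_congr rfl fun i _ => by rw [map_mul, hs]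

theorem faithfullyFlat (hJ : J ≤ 𝔭) :
    Module.FaithfullyFlat (FSch.stalkSubring A J 𝔭) (FSch.cAtPrime A J 𝔭) := by
  have := flat A J 𝔭
  have := isLocalRing_cAtPrime A J 𝔭 hJ
  obtain ⟨h1, h2⟩ := isLocalRing_and_isLocalHom A J 𝔭 hJ
  have : IsLocalHom (algebraMap (FSch.stalkSubring A J 𝔭) (FSch.cAtPrime A J 𝔭)) := h2
  exact Module.FaithfullyFlat.of_flat_of_isLocalHom

theorem isNoetherianRing (hJ : J ≤ 𝔭) : IsNoetherianRing (FSch.stalkSubring A J 𝔭) := by
  have := faithfullyFlat A J 𝔭 hJ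
  have : IsNoetherianRing (Localization.AtPrime 𝔭) :=
    IsLocalization.isNoetherianRing 𝔭.primeCompl _ ‹_›
  have : IsNoetherianRing (FSch.cAtPrime A J 𝔭) :=
    RegLoc.AdicNoeth.isNoetherianRing_adicCompletion _ (IsNoetherian.noetherian _)
  rw [isNoetherianRing_iff, isNoetherian_iff'] at *
  exact (OrderEmbedding.ofMapLEIff (Ideal.map (algebraMap (FSch.stalkSubring A J 𝔭) (FSch.cAtPrime A J 𝔭)))
    (fun I K => ⟨fun h => by
      have := Ideal.comap_mono (f := algebraMap (FSch.stalkSubring A J 𝔭) (FSch.cAtPrime A J 𝔭)) h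
      rwa [Ideal.comap_map_eq_self_of_faithfullyFlat,
        Ideal.comap_map_eq_self_of_faithfullyFlat] at this, fun h => Ideal.map_mono h⟩)).wellFoundedGT

theorem flat_codRestrict (hJ : J ≤ 𝔭)
    (h : ∀ a : A, ((algebraMap (Localization.AtPrime 𝔭) (FSch.cAtPrime A J 𝔭)).comp
      (algebraMap A (Localization.AtPrime 𝔭))) a ∈ FSch.stalkSubring A J 𝔭) :
    (((algebraMap (Localization.AtPrime 𝔭) (FSch.cAtPrime A J 𝔭)).comp
      (algebraMap A (Localization.AtPrime 𝔭))).codRestrict (FSch.stalkSubring A J 𝔭) h).Flat := by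
  have := faithfullyFlat A J 𝔭 hJ
  let _ := (((algebraMap (Localization.AtPrime 𝔭) (FSch.cAtPrime A J 𝔭)).comp
      (algebraMap A (Localization.AtPrime 𝔭))).codRestrict (FSch.stalkSubring A J 𝔭) h).toAlgebra
  have hsc : IsScalarTower A (FSch.stalkSubring A J 𝔭) (FSch.cAtPrime A J 𝔭) :=
    IsScalarTower.of_algebraMap_eq fun a => rfl
  have : IsNoetherianRing (Localization.AtPrime 𝔭) :=
    IsLocalization.isNoetherianRing 𝔭.primeCompl _ ‹_›
  have : Module.Flat A (Localization.AtPrime 𝔭) :=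
    IsLocalization.flat _ 𝔭.primeCompl
  have : Module.Flat A (FSch.cAtPrime A J 𝔭) :=
    Module.Flat.trans A (Localization.AtPrime 𝔭) _
  exact FDesc.Algebra.flat_of_comp_faithfullyFlat (A := A) (B := FSch.stalkSubring A J 𝔭)
    (C := FSch.cAtPrime A J 𝔭)

end Groth.Agent.Adic.StalkFlat
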