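import Groth.Agent.Adic.RestrictOpen
import Groth.Agent.RegLoc.AdicNoeth
import Groth.Prelude.Def_FSch3

/-!
Levels of a formal adic system with Noetherian smallest level are locally Noetherian.
-/

universe u

open CategoryTheory Limits AlgebraicGeometry

namespace Groth.Agent.Adic.SysNoeth

theorem isAdicComplete_of_pow_eq_bot {A : Type*} [CommRing A] (K : Ideal A) (m : ℕ)
    (h : K ^ m = ⊥) : IsAdicComplete K A where
  haus' x hx := by
    have := hx m
    rwa [SModEq.zero, smul_eq_mul, Ideal.mul_top, h] at this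
  prec' f hf := ⟨f m, fun n => by
    rcases le_total n m with hn | hn
    · exact hf hn
    · have := hf hn
      rw [h, Submodule.bot_smul, SModEq.bot] at this
      rw [this]⟩

theorem fg_of_le_sup_sq {A : Type*} [CommRing A] {K J : Ideal A} {m : ℕ} (hm : K ^ m = ⊥)
    (hJK : J ≤ K) (h : K ≤ J ⊔ K ^ 2) : K = J := by
  have hk : ∀ k, K ≤ J ⊔ K ^ (k + 1) := by
    intro k
    induction k with
    | zero => simp
    | succ k ih =>
      have h3 : K ^ (k + 1) ≤ J ⊔ K ^ (k + 2) := by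
        calc K ^ (k + 1) = K ^ k * K := pow_succ K k
          _ ≤ K ^ k * (J ⊔ K ^ 2) := Ideal.mul_mono le_rfl h
          _ ≤ J ⊔ K ^ (k + 2) := by
            rw [Ideal.mul_sup, ← pow_add]
            exact sup_le_sup_right Ideal.mul_le_right _
      exact ih.trans (sup_le le_sup_left h3)
  refine le_antisymm ?_ hJK
  have hb : K ^ (m + 1) = ⊥ := by rw [pow_succ, hm, Ideal.bot_mul]
  simpa [hb] using hk m

variable (𝔛 : FSch.Sys.{u}) (hF : 𝔛.IsFormal)

include hF in
theorem comap_ker_toX (n : ℕ) : (𝔛.toX (n + 1)).ker.comap (𝔛.ι n) = (𝔛.toX n).ker := by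
  have := (hF n).1
  have := FSch.Sys.toX_isClosedImmersion 𝔛 hF (n + 1)
  have hc : IsPullback (𝔛.toX n) (𝟙 (𝔛.X 0)) (𝔛.ι n) (𝔛.toX (n + 1)) :=
    IsPullback.of_vert_isIso_mono ⟨(Category.id_comp _).symm⟩
  exact (RestrictOpen.ker_eq_comap hc).symm

include hF in
theorem ker_toX_pow (hA : 𝔛.IsAdic) (n : ℕ) : (𝔛.toX (n + 1)).ker ^ (n + 1 + 1) = ⊥ := by
  have := (hF (n + 1)).1
  rw [← comap_ker_toX 𝔛 hF (n + 1), ← IdealSh.Comap.comap_pow, ← hA (n + 1)]
  have hc : IsPullback (𝟙 (𝔛.X (n + 1))) (𝟙 (𝔛.X (n + 1))) (𝔛.ι (n + 1)) (𝔛.ι (n + 1)) :=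
    IsKernelPair.id_of_mono (𝔛.ι (n + 1))
  rw [← RestrictOpen.ker_eq_comap hc, Scheme.Hom.ker_eq_bot_of_isIso]

include hF in
theorem isLocallyNoetherian (hA : 𝔛.IsAdic) [IsLocallyNoetherian (𝔛.X 0)]
    (hft : FSch.IdealFT (𝔛.ι 0).ker) (n : ℕ) : IsLocallyNoetherian (𝔛.X n) := by
  induction n with
  | zero => infer_instance
  | succ n ih =>
    constructor
    intro U
    have := (hF n).1
    have := FSch.Sys.toX_isClosedImmersion 𝔛 hF (n + 1)
    let A := Γ(𝔛.X (n + 1), U)
    set K : Ideal A := (𝔛.toX (n + 1)).ker.ideal U with hKdef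
    have hKpow : K ^ (n + 1 + 1) = ⊥ := by
      have := ker_toX_pow 𝔛 hF hA n
      have h2 := congrArg (fun J => Scheme.IdealSheafData.ideal J U) this
      simp only [Scheme.IdealSheafData.ideal_pow, Pi.pow_apply] at h2
      exact h2.trans (by simp)
    have hker : RingHom.ker ((𝔛.ι n).app U.1).hom = K ^ (n + 1) := by
      rw [← (𝔛.ι n).ker_apply U, hA n, Scheme.IdealSheafData.ideal_pow]
      rfl
    have hsurj : Function.Surjective ((𝔛.ι n).app U.1).hom := (𝔛.ι n).app_surjective U.1 U.2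
    have hK0 : RingHom.ker ((𝔛.toX (n + 1)).app U.1).hom = K :=
      ((𝔛.toX (n + 1)).ker_apply U).symm
    have hsurj0 : Function.Surjective ((𝔛.toX (n + 1)).app U.1).hom :=
      (𝔛.toX (n + 1)).app_surjective U.1 U.2
    have : IsNoetherianRing Γ(𝔛.X n, 𝔛.ι n ⁻¹ᵁ U.1) :=
      IsLocallyNoetherian.component_noetherian ⟨_, U.2.preimage (𝔛.ι n)⟩
    have : IsNoetherianRing Γ(𝔛.X 0, 𝔛.toX (n + 1) ⁻¹ᵁ U.1) :=
      IsLocallyNoetherian.component_noetherian ⟨_, U.2.preimage (𝔛.toX (n + 1))⟩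
    have hKfg : K.FG := by
      rcases Nat.eq_zero_or_pos n with rfl | hn
      · have h0 : ((𝔛.ι 0).ker.ideal U).FG := hft U
        rw [(𝔛.ι 0).ker_apply U, hker] at h0
        simpa using h0
      · obtain ⟨J, hJ, hJle⟩ : ∃ J : Ideal A, J.FG ∧
            J.map ((𝔛.ι n).app U.1).hom = K.map ((𝔛.ι n).app U.1).hom := by
          obtain ⟨s, hs⟩ := IsNoetherian.noetherian (K.map ((𝔛.ι n).app U.1).hom)
          classical
          choose g hg using hsurj
          refine ⟨Ideal.span ↑(s.image g), ⟨_, rfl⟩, ?_⟩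
          rw [Ideal.map_span, Finset.coe_image, Set.image_image, ← hs]
          simp [hg]
        have h1 := Ideal.comap_map_of_surjective _ hsurj J
        have h2 := Ideal.comap_map_of_surjective _ hsurj K
        rw [hJle, h2, ← RingHom.ker_eq_comap_bot, hker,
          sup_eq_left.2 (Ideal.pow_le_self (Nat.succ_ne_zero n))] at h1
        have hle : J ≤ K := h1.symm ▸ le_sup_left
        have hK2 : K ≤ J ⊔ K ^ 2 := h1.le.trans (sup_le_sup_left (Ideal.pow_le_pow_right (by omega)) _)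
        rw [fg_of_le_sup_sq hKpow hle hK2]
        exact hJ
    have : IsNoetherianRing (A ⧸ K) :=
      hK0 ▸ isNoetherianRing_of_ringEquiv _
        (RingHom.quotientKerEquivOfSurjective hsurj0).symm
    have := isAdicComplete_of_pow_eq_bot K _ hKpow
    exact RegLoc.AdicNoeth.isNoetherianRing_of_isAdicComplete K hKfg

end Groth.Agent.Adic.SysNoeth
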